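import Cfsg.Agent.Lib.U5.Loc
import Cfsg.Agent.Lib.H1.SchurZassenhaus
import Cfsg.Agent.Lib.H7.Transport

/-!
# S5258: automorphisms of `S`; twisting the system (see notes/U5.md, section Aut)
-/

set_option autoImplicit false
set_option linter.unusedSectionVars false
set_option linter.unusedVariables false

namespace Cfsg.Agent.U5

open Subgroup Cfsg Cfsg.FusionSystem
open scoped commutatorElement

variable {K : Type*} [Field K] [StarRing K] [hK : UF K] {p : ℕ} [hp : Fact p.Prime] [CharP K p]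

theorem aut_cong {W : Type*} [Group W] {U : Subgroup W} {γ : MulAut (⊤ : Subgroup W)}
    (hi : Inv γ U) {x y : W} (h1 : y⁻¹ * x ∈ U) (h2 : y⁻¹ * equivFun γ y ∈ U) :
    x⁻¹ * equivFun γ x ∈ U := by
  have h3 := hi _ trivial h1
  rw [ef_mul γ trivial trivial, ef_inv γ trivial] at h3
  simpa [mul_assoc] using mul_mem (mul_mem (inv_mem h1) h2) h3

/-- an element of `Q2` with prescribed `a` -/
noncomputable def xA (α : K) : US K := xa α _ (hom α)

/-- an element of `Z3` with prescribed `d` -/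
noncomputable def xD (δ : K) : US K := el 0 0 0 δ 0 h00

@[simp] theorem xA_a (α : K) : (xA α).a = α := rfl
@[simp] theorem xA_b (α : K) : (xA α).b = 0 := rfl
@[simp] theorem xA_d (α : K) : (xA α).d = 0 := rfl
@[simp] theorem xD_a (α : K) : (xD α).a = 0 := rfl
@[simp] theorem xD_b (α : K) : (xD α).b = 0 := rfl
@[simp] theorem xD_c (α : K) : (xD α).c = 0 := rfl
@[simp] theorem xD_d (α : K) : (xD α).d = α := rfl
@[simp] theorem xD_e (α : K) : (xD α).e = 0 := rfl

variable (K) in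
/-- the characteristic chain -/
def ch6 : ℕ → Subgroup (US K)
  | 0 => ⊥
  | 1 => Z1 K
  | 2 => Z2 K
  | 3 => YY K
  | 4 => Z3 K
  | 5 => Q2 K
  | _ + 6 => ⊤

theorem ch6_mono : Monotone (ch6 K) := monotone_nat_of_le_succ fun n =>
  match n with
  | 0 => bot_le
  | 1 => Z1_le_Z2
  | 2 => Z2_le_YY
  | 3 => YY_le_Z3
  | 4 => Z3_le_Q2
  | 5 => le_top
  | _ + 6 => le_rfl

section
variable (γ : MulAut (⊤ : Subgroup (US K)))

theorem aut_Q2 : Inv γ (Q2 K) := inv_Q2 le_top (inv_Z2_top γ)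

theorem aut_YY : Inv γ (YY K) := inv_YY le_top (aut_Q2 γ)

theorem aut_Z3 : Inv γ (Z3 K) := inv_Z3 le_top (inv_Z2_top γ)

theorem inv_ch6 (i : ℕ) : Inv γ (ch6 K i) :=
  match i with
  | 0 => Inv.bot
  | 1 => inv_Z1 le_top γ
  | 2 => inv_Z2_top γ
  | 3 => aut_YY γ
  | 4 => aut_Z3 γ
  | 5 => aut_Q2 γ
  | _ + 6 => Inv.top

theorem mem_ch6 (ha : ∀ x ∈ Q2 K, (equivFun γ x).a = x.a) (hb : ∀ x, (equivFun γ x).b = x.b) :
    γ ∈ H7.chainStab ⊤ (ch6 K) ch6_mono := by
  have h4 : ∀ x ∈ Z3 K, x⁻¹ * equivFun γ x ∈ YY K := fun x hx => by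
    refine aut_cong (aut_YY γ) (y := ⁅xb x.d, xA (1 : K)⁆) ?_ ?_
    · simp [mem_YY, commutatorElement_def, hx.1, hx.2]
    · rw [ef_ce γ trivial trivial]
      have h1 := ha (xA (1 : K)) rfl
      simp only [xA_a] at h1
      simp [mem_YY, commutatorElement_def, hb, h1]
      ring
  have hd : ∀ x ∈ Z3 K, (equivFun γ x).d = x.d := fun x hx => by
    have := (h4 x hx).2.2
    simp [hx.1, hx.2] at this
    linear_combination this
  have h3 : ∀ x ∈ YY K, x⁻¹ * equivFun γ x ∈ Z2 K := fun x hx => by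
    have hc : star x.c = -x.c := by simp [hx.1]
    refine aut_cong (inv_Z2_top γ) (y := ⁅xA (1 : K), xA (om K * x.c)⁆) ?_ ?_
    · simp [mem_Z2, commutatorElement_def, hx.1, hx.2.1, hx.2.2]
      ring
    · rw [ef_ce γ trivial trivial]
      have h1 := ha (xA (1 : K)) rfl
      have h2 := ha (xA (om K * x.c)) rfl
      simp only [xA_a] at h1 h2
      simp [mem_Z2, commutatorElement_def, hb, h1, h2, hx.1]
      ring
  have h2 : ∀ x ∈ Z2 K, x⁻¹ * equivFun γ x ∈ Z1 K := fun x hx => by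
    refine aut_cong (inv_Z1 le_top γ) (y := ⁅xA (1 : K), xD x.e⁆) ?_ ?_
    · simp [mem_Z1, commutatorElement_def, hx.1, hx.2.1, hx.2.2.1, hx.2.2.2]
      constructor <;> ring
    · rw [ef_ce γ trivial trivial]
      have h1 := ha (xA (1 : K)) rfl
      have h2 := ha (xD x.e) rfl
      have h5 := hd (xD x.e) ⟨rfl, rfl⟩
      simp only [xA_a, xD_a, xD_d] at h1 h2 h5
      simp [mem_Z1, commutatorElement_def, hb, h1, h2, h5]
      constructor <;> ring
  have h1 : ∀ x ∈ Z1 K, x⁻¹ * equivFun γ x ∈ (⊥ : Subgroup (US K)) := fun x hx => by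
    refine aut_cong Inv.bot (y := ⁅xb (1 : K), xe (om K * x.f)⁆) ?_ ?_
    · obtain ⟨k1, k2, k3, k4, k5⟩ := hx
      rw [mem_bot]
      ext <;> simp [commutatorElement_def, k1, k2, k3, k4, k5]
      ring
    · rw [ef_ce γ trivial trivial, mem_bot]
      obtain ⟨k1, k2, k3, k4⟩ := inv_Z2_top γ (xe (om K * x.f)) trivial ⟨rfl, rfl, rfl, rfl⟩
      have k5 := (h2 (xe (om K * x.f)) ⟨rfl, rfl, rfl, rfl⟩).2.2.2.2
      simp [neg_add_eq_zero] at k5
      ext <;> simp [commutatorElement_def, hb, k1, k2, k3, k4, ← k5] <;> ring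
  exact fun i x _ hx =>
    match i, hx with
    | 0, hx => h1 x hx
    | 1, hx => h2 x hx
    | 2, hx => h3 x hx
    | 3, hx => h4 x hx
    | 4, hx => ⟨by simp [ha x hx], by simp [hb]⟩
    | 5, _ => by simp [ch6, mem_Q2, hb]
    | _ + 6, _ => trivial

theorem exists_par : ∃ t : Par K, (∀ x ∈ Q2 K, (equivFun γ x).a = t.a * t.σ x.a) ∧
    ∀ x, (equivFun γ x).b = t.b * t.σ x.b := by
  have key : ∀ {U : Subgroup (US K)}, Inv γ U → ∀ x y, y⁻¹ * x ∈ U →
      (equivFun γ y)⁻¹ * equivFun γ x ∈ U := fun hi x y h => by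
    have := hi _ trivial h
    rwa [ef_mul γ trivial trivial, ef_inv γ trivial] at this
  have back : ∀ {U : Subgroup (US K)}, Inv γ⁻¹ U → ∀ x, equivFun γ x ∈ U → x ∈ U :=
    fun hi x h => equivFun_inv_apply γ (mem_top x) ▸ hi _ trivial h
  obtain ⟨A, hA⟩ : ∃ A : K → K, ∀ x ∈ Q2 K, (equivFun γ x).a = A x.a :=
    ⟨fun α => (equivFun γ (xA α)).a, fun x hx => by
      have := (key (aut_Z3 γ) x (xA x.a) ⟨by simp, by simp [mem_Q2.1 hx]⟩).1
      simp at this
      linear_combination this⟩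
  obtain ⟨B, hB⟩ : ∃ B : K → K, ∀ x, (equivFun γ x).b = B x.b :=
    ⟨fun β => (equivFun γ (xb β)).b, fun x => by
      have := key (aut_Q2 γ) x (xb x.b) (by simp [mem_Q2])
      simp [mem_Q2] at this
      linear_combination this⟩
  obtain ⟨D, hD⟩ : ∃ D : K → K, ∀ x ∈ Z3 K, (equivFun γ x).d = D x.d :=
    ⟨fun δ => (equivFun γ (xD δ)).d, fun x hx => by
      have := (key (aut_YY γ) x (xD x.d) ⟨by simp [hx.1], by simp [hx.2], by simp⟩).2.2
      have h1 := (aut_Z3 γ (xD x.d) trivial ⟨rfl, rfl⟩).2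
      simp [h1] at this
      linear_combination this⟩
  have hz : ∀ δ : K, xD δ ∈ Z3 K := fun δ => ⟨rfl, rfl⟩
  have d1 : ∀ x y, D (x + y) = D x + D y := fun x y => by
    have := hD _ (mul_mem (hz x) (hz y))
    rw [ef_mul γ trivial trivial] at this
    simpa [hD _ (hz _), (aut_Z3 γ _ trivial (hz x)).2] using this.symm
  have d2 : ∀ x, D x = 0 → x = 0 := fun x hx => by
    have h1 := aut_Z3 γ _ trivial (hz x)
    exact (back (aut_YY γ⁻¹) _ ⟨h1.1, h1.2, (hD _ (hz x)).trans hx⟩).2.2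
  have a1 : A 1 ≠ 0 := fun e => one_ne_zero (back (aut_Z3 γ⁻¹) (xA (1 : K))
    ⟨(hA _ rfl).trans e, aut_Q2 γ _ trivial rfl⟩).1
  have rel : ∀ β α, D (β * α) = B β * A α := fun β α => by
    have := hD _ (ce_Z3 (xb β) (xA α))
    rw [ef_ce γ trivial trivial] at this
    have h1 := mem_Q2.1 (aut_Q2 γ (xA α) trivial rfl)
    have h2 := hA (xA α) rfl
    have h3 := hB (xb β)
    simp only [xA_a, xb_b] at h2 h3
    simp [commutatorElement_def, h1, h2, h3] at this
    linear_combination -this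
  obtain ⟨σ, hσ⟩ := isotopy d1 d2 a1 fun β => ⟨B β, rel β⟩
  have d3 : D 1 ≠ 0 := fun e => one_ne_zero (d2 1 e)
  refine ⟨⟨Units.mk0 _ a1, Units.mk0 _ (div_ne_zero d3 a1), σ⟩, fun x hx => ?_, fun x => ?_⟩
  · rw [hA x hx, (hσ _).2]; rfl
  · have := rel x.b 1
    rw [mul_one, (hσ _).1] at this
    rw [hB]
    simp only [Units.val_mk0]
    field_simp
    linear_combination -this

end

/-- the standard automorphisms of `⊤` -/
noncomputable def tauT : Par K →* MulAut (⊤ : Subgroup (US K)) :=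
  (MulAut.congr topEquiv.symm).toMonoidHom.comp tau

theorem ef_tauT (t : Par K) (x : US K) : equivFun (tauT t) x = tauF t x := by
  rw [equivFun_of_mem _ (mem_top x)]; rfl

theorem exists_std {F : FusionSystem (⊤ : Subgroup (US K))} (hF : F.IsSaturated p) :
    ∃ (E : FusionSystem (⊤ : Subgroup (US K))) (t s : US K → US K), F.IsoVia E t s ∧ Std E := by
  obtain ⟨P0, hP⟩ : ∃ P0, P0 = H7.chainStab ⊤ (ch6 K) ch6_mono := ⟨_, rfl⟩
  have hn : P0.Normal := ⟨fun δ hδ γ => hP ▸ conj_mem_chainStab ch6_mono (inv_ch6 γ) (hP ▸ hδ)⟩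
  have hp0 : IsPGroup p P0 :=
    hP ▸ H7.isPGroup_chainStab (isPGroup_top p) ch6_mono (by simp [ch6]) (n := 6) le_rfl
  have hcov : ∀ γ, ∃ t, (tauT t)⁻¹ * γ ∈ P0 := fun γ => by
    obtain ⟨t, h1, h2⟩ := exists_par γ
    refine ⟨t, hP ▸ mem_ch6 _ (fun x hx => ?_) fun x => ?_⟩
    · rw [equivFun_mul _ _ (mem_top _), ← map_inv, ef_tauT]
      simp [h1 x hx]
    · rw [equivFun_mul _ _ (mem_top _), ← map_inv, ef_tauT]
      simp [h2 x]
  have hdis : Disjoint (tauT (K := K)).range P0 := disjoint_def.2 <| by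
    rintro _ ⟨t, rfl⟩ ht
    rw [hP, H7.mem_chainStab] at ht
    rw [eq_one_of_tauF (t := t) (fun x => ?_) fun x => ?_, map_one]
    · have := (ht 4 (xA x) trivial rfl).1
      simp [ef_tauT] at this
      linear_combination this
    · have := mem_Q2.1 (ht 5 (xb x) trivial trivial)
      simp [ef_tauT] at this
      linear_combination this
  have hS := hF.sylowIn (isPGroup_top p) F.isFullyNormalized_top
  rw [← inn_eq_autInducedBy] at hS
  obtain ⟨B, hB, hc, hsup, -⟩ := H1.exists_complement_of_coprime_relIndex hS.le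
    le_normalizer_of_normal (H1.coprime_card_of_isPGroup hS.isPGroup
      ((Nat.Prime.coprime_iff_not_dvd hp.out).2 hS.not_dvd_relIndex).symm).symm
  have hcB : (Nat.card B).Coprime (Nat.card P0) := H1.coprime_card_of_isPGroup hp0
    (hc ▸ ((Nat.Prime.coprime_iff_not_dvd hp.out).2 hS.not_dvd_relIndex).symm)
  obtain ⟨n, -, hn'⟩ := H1.exists_conj_le_of_coprime (A := (tauT (K := K)).range ⊓ (B ⊔ P0)) (K := P0)
    le_normalizer_of_normal (by
      refine Nat.Coprime.coprime_dvd_left ?_ hcB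
      rw [← H1.card_map_of_disjoint_ker (f := QuotientGroup.mk' P0)
        (by rw [QuotientGroup.ker_mk']; exact hdis.mono_left inf_le_left)]
      refine (card_dvd_of_le ((map_mono inf_le_right).trans ?_)).trans (card_map_dvd B (QuotientGroup.mk' P0))
      rw [Subgroup.map_sup, QuotientGroup.map_mk'_self, sup_bot_eq])
    (B := B) (fun b hb => by
      obtain ⟨t, ht⟩ := hcov b
      have h1 : tauT t ∈ B ⊔ P0 := by
        simpa using mul_mem (mem_sup_left hb) (mem_sup_right (inv_mem ht) : _ ∈ B ⊔ P0)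
      have h2 : tauT t ∈ (tauT (K := K)).range ⊓ (B ⊔ P0) := ⟨⟨t, rfl⟩, h1⟩
      simpa using mul_mem (mem_sup_right h2) (mem_sup_left ht : _ ∈ P0 ⊔ _))
    hcB (Or.inr (by have := hp0.isNilpotent; infer_instance))
  have hg : GrpIso (⊤ : Subgroup (US K)) ⊤ (equivFun n) (equivFun n⁻¹) :=
    ⟨isHomOn_equivFun _, isHomOn_equivFun _, fun _ _ => trivial, fun _ _ => trivial,
      fun x hx => equivFun_inv_apply n hx, fun x hx => equivFun_apply_inv n hx⟩
  obtain ⟨E, hE⟩ := F.exists_isoVia hg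
  refine ⟨E, _, _, hE, fun f hf => ?_⟩
  obtain ⟨α, hα, e⟩ := (hE.isIso_symm le_rfl le_rfl (by rwa [hg.img_top])).exists_aut
  obtain ⟨i, hi, b, hb, rfl⟩ := (H1.mem_sup_of_le_normalizer le_normalizer_of_normal).1 (hsup.ge hα)
  obtain ⟨w, -, hw⟩ := mem_inn_iff.1 hi
  obtain ⟨t, ht⟩ := (hn' (H1.conj_mem_conj_smul_iff.2 hb)).1
  refine ⟨equivFun n w, t, fun x => ?_⟩
  have h1 := congrArg (equivFun n) (e (equivFun n⁻¹ x) trivial)
  rw [equivFun_apply_inv n (mem_top _), equivFun_apply_inv n (mem_top _), equivFun_mul _ _ (mem_top _),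
    equivFun_of_mem i (mem_top _), hw, (isHomOn_equivFun n).map_conj (mem_top _) (mem_top _)] at h1
  rw [← h1, ← ef_tauT, ht, equivFun_mul _ _ (mem_top _), equivFun_mul _ _ (mem_top _)]

end Cfsg.Agent.U5
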