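import Cfsg.Agent.Lib.U5.PartA
import Cfsg.Agent.Lib.H7.Transport

/-!
# S5258: tools for the automizers of `Q1` and `Q2`
-/

set_option autoImplicit false
set_option linter.unusedSectionVars false
set_option linter.unusedVariables false

namespace Cfsg.Agent.U5

open Subgroup Cfsg Cfsg.FusionSystem US
open scoped commutatorElement

section Generic

variable {W : Type*} [Group W] [Finite W] {R Z : Subgroup W}

theorem exists_aut_of {f g : W → W} (hf : ∀ x ∈ R, ∀ y ∈ R, f (x * y) = f x * f y)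
    (hm : ∀ x ∈ R, f x ∈ R) (hg : ∀ x ∈ R, g (f x) = x) :
    ∃ N : MulAut R, ∀ x ∈ R, equivFun N x = f x := by
  let φ : R →* R := MonoidHom.mk' (fun x => ⟨f x, hm x x.2⟩) fun x y =>
    Subtype.ext (hf x x.2 y y.2)
  have hi : Function.Injective φ := fun x y e => Subtype.ext (by
    rw [← hg x x.2, ← hg y y.2]; exact congrArg (fun z : R => g z) e)
  exact ⟨MulEquiv.ofBijective φ ⟨hi, Finite.surjective_of_injective hi⟩, fun x hx =>
    equivFun_of_mem _ hx⟩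

theorem mem_norm [R.Normal] (t : W) : t ∈ normalizer (R : Set W) := by
  rw [normalizer_eq_top]; trivial

/-- The cocycle `x ↦ x⁻¹ y(x)` of an automorphism `y` trivial on `Z` and modulo `Z`. -/
theorem fpf_core {K : Type*} [Field K] [StarRing K] [UF K] (hZ : Z ≤ R)
    (hc : ∀ z ∈ Z, ∀ r ∈ R, z * r = r * z) {y k : MulAut R}
    (h1 : ∀ x ∈ R, x⁻¹ * equivFun y x ∈ Z) (h2 : ∀ z ∈ Z, equivFun y z = z)
    (hk : k * y * k⁻¹ = y) {s : K → W} (hs : ∀ a, s a ∈ R)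
    (ha : ∀ a b, (s a * s b)⁻¹ * s (a + b) ∈ Z) {w : K}
    (hw : ∀ a, (equivFun k (s a))⁻¹ * s (w * a) ∈ Z) {g : W → K}
    (hg : ∀ z ∈ Z, ∀ z' ∈ Z, g (z * z') = g z + g z') {t : K}
    (ht : ∀ z ∈ Z, g (equivFun k z) = t * g z) {n : ℕ} (e1 : t ^ n = 1) (e2 : w ^ n ≠ 1) (a : K) :
    g ((s a)⁻¹ * equivFun y (s a)) = 0 := by
  have m : ∀ x ∈ R, ∀ x' ∈ R, (x * x')⁻¹ * equivFun y (x * x') =
      x⁻¹ * equivFun y x * (x'⁻¹ * equivFun y x') := fun x hx x' hx' => by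
    rw [ef_mul _ hx hx', ← mul_assoc (x⁻¹ * _), hc _ (h1 x hx) _ (inv_mem hx')]; group
  have c : ∀ x ∈ R, ∀ x' ∈ R, x⁻¹ * x' ∈ Z → x'⁻¹ * equivFun y x' = x⁻¹ * equivFun y x :=
    fun x hx x' hx' h => by
      have := m x hx _ (hZ h)
      rwa [h2 _ h, inv_mul_cancel, mul_one, mul_inv_cancel_left] at this
  refine eq_zero_of_weight (χ := fun a => g ((s a)⁻¹ * equivFun y (s a))) (s := w) (t := t)
    (fun a b => ?_) (fun a => ?_) e1 e2 a
  · rw [c _ (mul_mem (hs a) (hs b)) _ (hs _) (ha a b), m _ (hs a) _ (hs b),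
      hg _ (h1 _ (hs a)) _ (h1 _ (hs b))]
  · have e : y * k = k * y := by rw [← hk, inv_mul_cancel_right, hk]
    rw [c _ (equivFun_mem k (hs a)) _ (hs _) (hw a), ← equivFun_mul _ _ (hs a), e,
      equivFun_mul _ _ (hs a), ← ef_inv _ (hs a),
      ← ef_mul _ (inv_mem (hs a)) (equivFun_mem _ (hs a)), ht _ (h1 _ (hs a)), smul_eq_mul]

/-- Lifting: an automorphism that agrees with one of `A` on the quotient lies in `A`. -/
theorem mem_of_lift {G V : Type*} [Group G] [Finite G] [Group V] (vb : G →* V) {A I : Subgroup G}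
    [hI : I.Normal] (hIA : I ≤ A) (hIC : I ≤ vb.ker) (hker : ∀ γ ∈ A, vb γ = 1 → γ ∈ I)
    {x N k k' : G} (hx : x ∈ A) (e : vb x = vb N) (hk : k ∈ A) (hk' : k' ∈ A) (e' : N * k = k' * N)
    (hf : ∀ y, vb y = 1 → k' * y * k'⁻¹ = y → y = 1) : N ∈ A := by
  have hc : x * N⁻¹ ∈ vb.ker := by simp [MonoidHom.mem_ker, e]
  have h1 : x * N⁻¹ * (k' * (x * N⁻¹)⁻¹ * k'⁻¹) = x * k * x⁻¹ * k'⁻¹ := by
    calc _ = x * N⁻¹ * (k' * N) * x⁻¹ * k'⁻¹ := by group
      _ = _ := by rw [← e']; group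
  have h2 := mem_of_fpf hIC (fun i hi => hI.conj_mem i hi k') hf hc (hker _
    (h1 ▸ A.mul_mem (A.mul_mem (A.mul_mem hx hk) (A.inv_mem hx)) (A.inv_mem hk'))
    (vb.ker.mul_mem hc (vb.normal_ker.conj_mem _ (vb.ker.inv_mem hc) k')))
  simpa using A.mul_mem (A.inv_mem (hIA h2)) hx

end Generic

variable {K : Type*} [Field K] [StarRing K] [hK : UF K] {p : ℕ} [hp : Fact p.Prime] [CharP K p]
  {F : FusionSystem (⊤ : Subgroup (US K))}

theorem isIso_tauF {f : US K → US K} (hf : F.IsIso ⊤ ⊤ f) {s : US K} {t : Par K}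
    (e : ∀ x, f x = s * tauF t x * s⁻¹) : F.IsIso ⊤ ⊤ (tauF t) :=
  (((F.isMor_conj le_rfl (mem_top s⁻¹)).comp' hf.mor
    fun _ _ => trivial).congr fun x _ => by rw [e]; group).isIso_top

theorem exists_res {R : Subgroup (US K)} {f : US K → US K} (hf : F.IsIso ⊤ ⊤ f)
    (hm : ∀ x ∈ R, f x ∈ R) : ∃ k ∈ F.autGroup R, ∀ x ∈ R, equivFun k x = f x :=
  ((hf.mor.mono le_top).isIso_self hm).exists_aut

theorem exists_pow_real : ∃ n : ℕ, ∀ x : K, x ≠ 0 → (x ^ n = 1 ↔ star x = x) := by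
  obtain ⟨q, hq, -, h⟩ := exists_q (K := K)
  refine ⟨q - 1, fun x hx => ?_⟩
  rw [h, ← Nat.sub_add_cancel (show 1 ≤ q by omega), pow_succ, Nat.add_sub_cancel,
    mul_eq_right₀ hx]

theorem exists_pow_norm : ∃ n : ℕ, ∀ x : K, x ^ n = x * star x := by
  obtain ⟨q, hq, -, h⟩ := exists_q (K := K)
  exact ⟨q + 1, fun x => by rw [h, pow_succ']⟩

end Cfsg.Agent.U5
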