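import Cfsg.Agent.Lib.U5.Loc

/-!
# S5258: the essential subgroups are `Q1` and `Q2` (see notes/U5.md, section PartA)
-/

set_option autoImplicit false
set_option linter.unusedSectionVars false
set_option linter.unusedVariables false

namespace Cfsg.Agent.U5

open Subgroup Cfsg Cfsg.FusionSystem US
open scoped commutatorElement

variable {K : Type*} [Field K] [StarRing K] [hK : UF K] {p : ℕ} [hp : Fact p.Prime] [CharP K p]
  {R : Subgroup (US K)} {M A : Subgroup (MulAut R)} {x y : US K}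

theorem cm_d (x y : US K) : (x⁻¹ * (y * x * y⁻¹)).d = y.b * x.a - x.b * y.a := by simp; ring

theorem cm_e1 (hx : x ∈ Z3 K) : (x⁻¹ * (y * x * y⁻¹)).e = y.b * x.c + x.d * star y.a := by
  simp [hx.1, hx.2]; ring

theorem cm_e2 (hy : y ∈ Z3 K) : (x⁻¹ * (y * x * y⁻¹)).e = -(x.b * y.c + y.d * star x.a) := by
  simp [hy.1, hy.2]; ring

theorem cm_e3 (hx : x.a = 0) (hy : y.a = 0) : (x⁻¹ * (y * x * y⁻¹)).e = y.b * x.c - x.b * y.c := by
  simp [hx, hy]; ring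

theorem ext_Z1 (hx : x ∈ Z1 K) (hy : y ∈ Z1 K) (h : x.f = y.f) : x = y :=
  US.ext (hx.1.trans hy.1.symm) (hx.2.1.trans hy.2.1.symm) (hx.2.2.1.trans hy.2.2.1.symm)
    (hx.2.2.2.1.trans hy.2.2.2.1.symm) (hx.2.2.2.2.trans hy.2.2.2.2.symm) h

theorem inv_mul_mem_Z1 (hx : x ∈ Z2 K) (hy : y ∈ Z2 K) (h : x.e = y.e) : x⁻¹ * y ∈ Z1 K := by
  simp [mem_Z1, hx.1, hx.2.1, hx.2.2.1, hx.2.2.2, hy.1, hy.2.1, hy.2.2.1, hy.2.2.2, h]

theorem ce_f2 (hx : x ∈ Z2 K) : ⁅x, y⁆.f = y.b * star x.e - x.e * star y.b := by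
  simp [commutatorElement_def, hx.1, hx.2.1, hx.2.2.1, hx.2.2.2]; ring

theorem ce_f3 (hx : x ∈ Z3 K) (hy : y ∈ Z3 K) : ⁅x, y⁆.f = y.d * star x.d - x.d * star y.d := by
  simp [commutatorElement_def, hx.1, hx.2, hy.1, hy.2]; ring

theorem ce_e3 (hx : x ∈ Z3 K) : ⁅x, y⁆.e = -(y.b * x.c + x.d * star y.a) := by
  simp [commutatorElement_def, hx.1, hx.2]; ring

theorem ce_d (x y : US K) : ⁅x, y⁆.d = x.b * y.a - y.b * x.a := by
  simp [commutatorElement_def]; ring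

theorem star_f_Z1 (hx : x ∈ Z1 K) : star x.f = -x.f := by simp [hx.2.1, hx.2.2.2.1]

theorem xe_add (e e' : K) : xe (e + e') = xe e * xe e' := by ext <;> simp

theorem xe_mem (e : K) : xe e ∈ Z2 K := ⟨rfl, rfl, rfl, rfl⟩

theorem ce_mem {W : Type*} [Group W] {R : Subgroup W} {x y : W} (hx : x ∈ R) (hy : y ∈ R) :
    ⁅x, y⁆ ∈ R := mul_mem (mul_mem (mul_mem hx hy) (inv_mem hx)) (inv_mem hy)

theorem Loc.L2 (h : Loc p R M A) {g₀ : MulAut R} (hg₀ : g₀ ∈ A) (hb₀ : g₀ ∉ M)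
    (h1 : Inv g₀ (Z1 K)) : R = Q1 K := by
  have e2 := h.Z2_le hg₀ hb₀ h1
  obtain ⟨U, hU1, hU2, ⟨g, hg, hb, hi⟩, hmax⟩ :=
    exists_max (M := M) (P := A ⊓ invS R (Z1 K)) Z1_le_Z2 e2 ⟨hg₀, h1⟩ hb₀ h1
  haveI := normal_of_le_Z2 hU1 hU2
  have hg2 : Inv g (Z1 K) := hg.2
  have hn2 : ¬ Inv g (Z2 K) := fun h2 => hb (h.mem_of_inv hg.1 hg2 h2)
  have C1 : ∀ z ∈ Z2 K, z ∉ U → ∀ x,
      (equivFun g z)⁻¹ * (x * equivFun g z * x⁻¹) ∈ U → x ∈ R := fun z hz hzU x hx =>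
    mem_of_max h.hW h.se inf_le_left (fun t ht => ⟨h.cj_A ht, mem_invS.2 (inv_conjAut' (C := Z1 K) ht)⟩) (hU2.trans e2)
      (e2 hz) (hmax z hz hzU) hg hb hi (fun r _ => hU1 (cm_Z1 (Or.inl hz))) hx
  have C2 : ∀ z ∈ Z2 K, ∀ r ∈ R, (equivFun g z)⁻¹ * (r * equivFun g z * r⁻¹) ∈ Z1 K :=
    fun z hz r hr => hg2.cm (e2 hz) hr (cm_Z1 (Or.inl hz))
  obtain ⟨κ, hκ, hκ'⟩ := exists_tz K
  have hκ2 : κ + star κ + 0 * star 0 = 0 := by simp [hκ']
  by_cases hq : ∃ z ∈ Z2 K, z ∉ U ∧ equivFun g z ∈ Q1 K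
  · obtain ⟨z, hz, hzU, hw⟩ := hq
    have hQ : Q1 K ≤ R := fun x hx => C1 z hz hzU x (hU1 (cm_Z1 (.inr (.inr (.inr ⟨hw, hx⟩)))))
    have D1 := C1 z hz hzU
    have D2 := C2 z hz
    generalize equivFun g z = w at hw D1 D2
    by_cases hbw : w.b = 0
    · have hd : w.d ≠ 0 := fun hd => h.ne_top (eq_top_iff.2 fun x _ =>
        D1 x (hU1 (cm_Z1 (.inl ⟨hw.1, hbw, hw.2, hd⟩))))
      have ha : ∀ r ∈ R, r.a = 0 := fun r hr => by
        have := (D2 r hr).2.2.2.2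
        rw [cm_e1 ⟨hw.1, hbw⟩, hw.2] at this
        simpa [hd] using this
      have hc : xa 0 κ hκ2 ∈ R := D1 _ (hU1 (cm_Z1 (.inr (.inr (.inl ⟨⟨hw.1, hbw⟩, rfl, rfl⟩)))))
      refine absurd (fun y hy hy2 => ?_) hn2
      have hb' : xb (-(y.e / κ)) ∈ R := hQ ⟨rfl, rfl⟩
      have k1 := inv_mul_mem_Z1 (ce_Z2 (x := xa 0 κ hκ2) (y := xb (-(y.e / κ))) (.inl ⟨rfl, rfl⟩))
        hy2 (by rw [ce_e3 ⟨rfl, rfl⟩]; simp [hκ])
      have k2 := hg2 _ (h.Z1_le k1) k1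
      rw [ef_mul _ (inv_mem (ce_mem hc hb')) hy, ef_inv _ (ce_mem hc hb'), ef_ce _ hc hb'] at k2
      exact (mul_mem_cancel_left (inv_mem (ce_Z2 (.inr (.inr ⟨ha _ (equivFun_mem g hc),
        ha _ (equivFun_mem g hb')⟩))))).1 (Z1_le_Z2 k2)
    · refine le_antisymm (fun r hr => ?_) hQ
      have k1 := (D2 r hr).2.2.2.1
      rw [cm_d, hw.1] at k1
      have k2 : r.a = 0 := by simpa [hbw] using k1
      have k3 := (D2 r hr).2.2.2.2
      rw [cm_e3 hw.1 k2, hw.2] at k3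
      exact ⟨k2, by simpa [hbw] using k3⟩
  exfalso
  push Not at hq
  obtain ⟨z, hz, hzU⟩ : ∃ z ∈ Z2 K, z ∉ U := by
    by_contra! hle
    exact hn2 fun x hx hz => hU2 (hi x hx (hle x hz))
  have hU : ∀ u ∈ U, u.e = 0 := fun u hu => by
    have D1 := C1 z hz hzU
    have D2 := C2 z hz
    have hw := hq z hz hzU
    generalize equivFun g z = w at hw D1 D2
    have key : ∀ x, w⁻¹ * (x * w * x⁻¹) ∈ Z2 K → u.e = (w⁻¹ * (x * w * x⁻¹)).e → u.e = 0 :=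
      fun x k1 k2 => k2.trans (D2 x (D1 x (by
        simpa using mul_mem hu (hU1 (inv_mul_mem_Z1 (hU2 hu) k1 k2))))).2.2.2.2
    by_cases ha : w.a = 0
    · have hc : w.c ≠ 0 := fun hc => hw ⟨ha, hc⟩
      exact key (xb (u.e / w.c)) (cm_Z2 (.inr (.inr ⟨ha, rfl⟩))) (by rw [cm_e3 ha rfl]; simp [hc])
    · exact key (el 0 0 0 (-(u.e / star w.a)) 0 h00) (cm_Z2 (.inr (.inl ⟨rfl, rfl⟩)))
        (by rw [cm_e2 ⟨rfl, rfl⟩]; simp [ha])
  have hx : ∀ e : K, e ≠ 0 → xe e ∉ U := fun e he hu => he (hU _ hu)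
  have hφ : ∀ e e' : K, equivFun g (xe (e + e')) = equivFun g (xe e) * equivFun g (xe e') :=
    fun e e' => by rw [xe_add, ef_mul _ (e2 (xe_mem _)) (e2 (xe_mem _))]
  by_cases hA : ∀ e : K, (equivFun g (xe e)).a = 0 → e = 0
  · have hs := surj_of_ker (f := fun e => (equivFun g (xe e)).a) (fun e e' => by simp [hφ]) hA
    obtain ⟨θ, hθ⟩ := exists_star_ne K
    obtain ⟨e₁, h₁⟩ := hs 1
    obtain ⟨e₂, h₂⟩ := hs θ
    have := (comm_iff.1 ((hφ e₁ e₂).symm.trans (add_comm e₁ e₂ ▸ hφ e₂ e₁))).1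
    simp only at h₁ h₂
    rw [h₁, h₂] at this
    exact hθ (by simpa using this)
  · push Not at hA
    obtain ⟨e₁, h₁, h₂⟩ := hA
    have k1 : el 0 0 0 1 0 h00 ∈ R := C1 _ (xe_mem e₁) (hx e₁ h₂) _ (hU1 (by
      have := cm_Z2 (x := equivFun g (xe e₁)) (y := el 0 0 0 1 0 h00) (.inr (.inl ⟨rfl, rfl⟩))
      exact ⟨this.1, this.2.1, this.2.2.1, this.2.2.2, by rw [cm_e2 ⟨rfl, rfl⟩]; simp [h₁]⟩))
    have k2 : ∀ e, (equivFun g (xe e)).a = 0 := fun e => by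
      have := (C2 _ (xe_mem e) _ k1).2.2.2.2
      rw [cm_e2 ⟨rfl, rfl⟩] at this
      simpa using this
    obtain ⟨e, he⟩ := surj_of_ker (f := fun e => (equivFun g (xe e)).c)
      (fun e e' => by simp [hφ, k2]) (fun e he => by_contra fun h0 =>
        hq _ (xe_mem e) (hx e h0) ⟨k2 e, he⟩) (om K)
    have := (equivFun g (xe e)).hc
    simp only at he
    simp [he, k2] at this

theorem cm_el_add (w : US K) (d e d' e' : K) :
    w⁻¹ * (el 0 0 0 (d + d') (e + e') h00 * w * (el 0 0 0 (d + d') (e + e') h00)⁻¹) =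
    w⁻¹ * (el 0 0 0 d e h00 * w * (el 0 0 0 d e h00)⁻¹) *
      (w⁻¹ * (el 0 0 0 d' e' h00 * w * (el 0 0 0 d' e' h00)⁻¹)) := by
  ext <;> simp <;> ring

theorem Loc.L1 (h : Loc p R M A) (hno : ∀ g ∈ A, Inv g (Z1 K) → g ∈ M) : R = Q2 K := by
  obtain ⟨g₀, hg₀, hb₀⟩ := h.data.exists_not_mem
  obtain ⟨U, -, hU2, ⟨g, hg, hb, hi⟩, hmax⟩ :=
    exists_max (M := M) (P := A) (Z := ⊥) bot_le h.Z1_le hg₀ hb₀ Inv.bot
  haveI : U.Normal := ⟨fun x hx t => by rwa [← comm_Z1 (hU2 hx), mul_inv_cancel_right]⟩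
  obtain ⟨z, hz, hzU⟩ : ∃ z ∈ Z1 K, z ∉ U := by
    by_contra! hle
    exact hb (hno g hg fun x hx hz => hU2 (hi x hx (hle x hz)))
  have hzR := h.Z1_le hz
  have C1 : ∀ g ∈ A, g ∉ M → Inv g U → ∀ x, x * equivFun g z = equivFun g z * x → x ∈ R :=
    fun g hg hb hi x hx => mem_of_max h.hW h.se le_rfl (fun t ht => h.cj_A ht) (hU2.trans h.Z1_le)
      hzR (hmax z hz hzU) hg hb hi (fun r _ => bot_le (a := U) (cm_eq_one (comm_Z1 hz r)))
      (bot_le (a := U) (cm_eq_one hx.symm))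
  have D1 := C1 g hg hb hi
  have D2 : ∀ r ∈ R, r * equivFun g z = equivFun g z * r := fun r hr =>
    (ef_comm g hzR hr (comm_Z1 hz _)).symm
  have hwR := equivFun_mem g hzR
  have TX : ∀ t (ht : t ∈ normalizer (R : Set (US K))), t ∉ R → ∀ x,
      x * equivFun g⁻¹ (t * equivFun g z * t⁻¹) = equivFun g⁻¹ (t * equivFun g z * t⁻¹) * x →
      x ∈ R := fun t ht htR x hx => by
    refine C1 (g⁻¹ * conjAut R ht * g⁻¹⁻¹) (mul_mem (mul_mem (inv_mem hg) (h.cj_A ht))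
      (inv_mem (inv_mem hg))) (fun hm => hb (inv_mem_iff.1 (h.se t ht htR _ (inv_mem hg) hm)))
      ((hi.inv.mul (inv_conjAut' ht)).mul hi.inv.inv) x ?_
    rwa [ef_conj _ _ hzR, inv_inv]
  have hzw := equivFun_inv_apply g hzR
  have E : ∀ x ∈ R, ∀ y ∈ R, z = ⁅x, y⁆ → equivFun g z = ⁅equivFun g x, equivFun g y⁆ :=
    fun x hx y hy e => by rw [e, ef_ce _ hx hy]
  generalize equivFun g z = w at D1 D2 hwR TX hzw E
  have hf := star_f_Z1 hz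
  obtain ⟨θ, hθ⟩ := exists_star_ne K
  by_cases ha : w.a = 0; swap
  · exfalso
    have ha' : star w.a ≠ 0 := by simpa using ha
    have key : ∀ D E : K → K, (∀ a b, D (a + b) = D a + D b) → (∀ a b, E (a + b) = E a + E b) →
        (∀ κ, ∃ s, star s = s ∧ D κ * star w.a * star w.b = s * (w.b * star w.b)) →
        (∀ κ, el 0 0 0 (D κ) (E κ) h00 ∈ R → κ = 0) → ∀ x, (∀ r ∈ R, r.a = 0 → x * r = r * x) →
        x ∈ R := fun D E hD hE hN hR x hx => by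
      have n1 : ∀ κ, ∀ r ∈ R, r⁻¹ * (el 0 0 0 (D κ) (E κ) h00 * r * (el 0 0 0 (D κ) (E κ) h00)⁻¹)
          ∈ R := fun κ r hr => D1 _ (by
        have k1 := cm_Z2 (x := r) (y := el 0 0 0 (D κ) (E κ) h00) (.inr (.inl ⟨rfl, rfl⟩))
        have k2 := cm_e2 (x := r) (y := el 0 0 0 (D κ) (E κ) h00) ⟨rfl, rfl⟩
        obtain ⟨s, hs, e⟩ := hN κ
        have e' := congrArg star e
        have k3 := (comm_iff.1 (D2 r hr)).1
        generalize r⁻¹ * (el 0 0 0 (D κ) (E κ) h00 * r * (el 0 0 0 (D κ) (E κ) h00)⁻¹) = u at k1 k2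
        simp [hs] at k2 e'
        simp [comm_iff, k1.1, k1.2.1, k1.2.2.1, k1.2.2.2, k2]
        apply mul_left_cancel₀ (mul_ne_zero ha ha')
        linear_combination w.a * star r.a * e - star w.a * r.a * e' - s * (w.b * star w.b) * k3)
      obtain ⟨κ, hκ, e⟩ := exists_ker (f := fun κ => (equivFun g⁻¹ (w⁻¹ *
        (el 0 0 0 (D κ) (E κ) h00 * w * (el 0 0 0 (D κ) (E κ) h00)⁻¹))).a)
        (fun a b => by rw [hD, hE, cm_el_add, ef_mul _ (n1 a w hwR) (n1 b w hwR), mul_a])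
        (θ * w.a) fun κ e => by
          have k3 := (comm_iff.1 (D2 _ (equivFun_mem g⁻¹ (n1 κ w hwR)))).1
          rw [e, star_mul'] at k3
          exact hθ (mul_right_cancel₀ (mul_ne_zero ha ha') (by linear_combination -k3))
      refine TX _ (mem_norm_of_cm (n1 κ)) (fun hm => hκ (hR κ hm)) x (hx _ (equivFun_mem _
        (by simpa using mul_mem hwR (n1 κ w hwR))) ?_)
      rw [← mul_inv_cancel_left w (_ * w * _), ef_mul _ hwR (n1 κ w hwR), hzw, mul_a, hz.1, zero_add]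
      exact e
    by_cases hbw : w.b = 0
    · have k : ∀ κ, el 0 0 0 κ 0 h00 ∈ R → κ = 0 := fun κ hm => by
        simpa [ha] using (comm_iff.1 (D2 _ hm)).2.2.1
      refine one_ne_zero (k 1 (key id (fun _ => 0) (fun _ _ => rfl) (fun _ _ => by simp)
        (fun κ => ⟨0, by simp [hbw]⟩) k _ fun r hr hra => (comm_YY ?_ rfl).symm))
      obtain ⟨-, k1, k2, -⟩ := comm_iff.1 (D2 r hr)
      have k3 : r.b = 0 := by simpa [hra, ha] using k1
      exact ⟨hra, k3, by simpa [hra, k3, hbw, ha] using k2⟩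
    · have hb' : star w.b ≠ 0 := by simpa using hbw
      have k := key (fun κ => (κ + star κ) * w.b / star w.a) (fun κ => om K * κ * w.b)
        (fun a b => by simp; ring) (fun a b => by ring)
        (fun κ => ⟨κ + star κ, by simp [add_comm], by field_simp⟩) (fun κ hm => by
          obtain ⟨-, -, k1, k2⟩ := comm_iff.1 (D2 _ hm)
          have k3 : κ + star κ = 0 := by simpa [ha, hbw] using k1
          simp [k3] at k2
          apply mul_right_cancel₀ (mul_ne_zero hbw hb')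
          linear_combination k2 + (1 - om K) * (w.b * star w.b) * k3)
        (xe (θ * w.b)) fun r hr hra => comm_YY (Z2_le_YY (xe_mem _))
          (by simpa [hra, ha, mem_Q2] using (comm_iff.1 (D2 r hr)).2.1)
      have := (comm_iff.1 (D2 _ k)).2.2.2
      simp at this
      exact hθ (mul_right_cancel₀ (mul_ne_zero hbw hb') (by linear_combination -this))
  by_cases hbw : w.b = 0; swap
  · have hb' : star w.b ≠ 0 := by simpa using hbw
    have k : ∀ d, el 0 0 0 d (-(d * star w.d / star w.b)) h00 ∈ R := fun d => D1 _ (by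
      simp [comm_iff, ha]; field_simp; ring)
    refine absurd (E _ (k (-(om K * z.f))) _ (k 1) (ext_Z1 hz
      (ce_Z1 (.inr (.inr (.inl ⟨⟨rfl, rfl⟩, rfl, rfl⟩)))) ?_) ▸ ce_Z3 _ _ : w ∈ Z3 K).2 hbw
    rw [ce_f3 ⟨rfl, rfl⟩ ⟨rfl, rfl⟩]; simp only [el_d, star_neg, star_mul', hf, star_om, star_one]; ring
  have hc : star w.c = -w.c := by simp [ha]
  by_cases hd : w.d = 0; swap
  · have hd' : star w.d ≠ 0 := by simpa using hd
    obtain ⟨κ, hκ, hκ'⟩ := exists_tz K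
    have hκ2 : κ + star κ + 0 * star 0 = 0 := by simp [hκ']
    have k0 : xa 0 κ hκ2 ∈ R := D1 _ (comm_YY ⟨rfl, rfl, rfl⟩ hbw)
    have k : ∀ β, ∃ x ∈ R, x.b = β := fun β => ⟨el (-star (β * w.c / w.d)) β _
      (-(om K * (-(star β * β * w.c) - w.e * star β + star w.e * β) / star w.d)) 0 (hom _),
      D1 _ (by simp [comm_iff, ha, hbw]; constructor <;> field_simp <;> ring), rfl⟩
    obtain ⟨x₁, k1, e1⟩ := k (om K * z.f / κ)
    obtain ⟨x₂, k2, e2⟩ := k 1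
    have k3 : ⁅xa 0 κ hκ2, x₁⁆ ∈ Z2 K := ce_Z2 (.inl ⟨rfl, rfl⟩)
    have k4 := E _ (ce_mem k0 k1) _ k2 (ext_Z1 hz (ce_Z1 (.inl k3)) (by
      rw [ce_f2 k3, ce_e3 ⟨rfl, rfl⟩, e1, e2]
      simp only [xa_c, xa_d, zero_mul, add_zero, div_mul_cancel₀ _ hκ, star_neg, star_mul', hf,
        star_om, star_one]
      ring))
    rw [ef_ce _ k0 k1] at k4
    exact absurd (k4 ▸ ce_Z2 (.inl (ce_Z3 _ _)) : w ∈ Z2 K).2.2.2 hd
  have hQ : Q2 K ≤ R := fun x hx => D1 x (comm_YY ⟨ha, hbw, hd⟩ hx).symm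
  by_cases hcw : w.c = 0; swap
  · exact le_antisymm (fun r hr => by
      simpa [ha, hbw, hd, hcw, mem_Q2] using (comm_iff.1 (D2 r hr)).2.2.1) hQ
  have he : w.e ≠ 0 := fun he => h.ne_top (eq_top_iff.2 fun x _ =>
    D1 x (comm_Z1 ⟨ha, hbw, hcw, hd, he⟩ x).symm)
  have k0 : xb w.e ∈ R := D1 _ (by simp [comm_iff, ha, hbw, hcw, hd])
  have k : ∀ α, xa α _ (hom α) ∈ R := fun α => hQ rfl
  have k4 := E _ (ce_mem k0 (k (-(om K * z.f) / w.e))) _ (ce_mem k0 (k (1 / w.e)))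
    (ext_Z1 hz (ce_Z1 (.inr (.inr (.inl ⟨ce_Z3 _ _, ce_Z3 _ _⟩)))) (by
      rw [ce_f3 (ce_Z3 _ _) (ce_Z3 _ _), ce_d, ce_d]
      simp only [xa_a, xa_b, xb_a, xb_b, zero_mul, sub_zero, mul_div_cancel₀ _ he, star_neg,
        star_mul', hf, star_om, star_one]
      ring))
  rw [ef_ce _ k0 (k _), ef_ce _ k0 (k _)] at k4
  exact absurd (k4 ▸ ce_Z1 (.inr (.inr (.inl ⟨ce_Z3 _ _, ce_Z3 _ _⟩))) : w ∈ Z1 K).2.2.2.2 he

theorem ess_cases {F : FusionSystem (⊤ : Subgroup (US K))} (hF : F.IsSaturated p)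
    {R : Subgroup (US K)} (hR : F.IsEssential p R) : R = Q1 K ∨ R = Q2 K := by
  obtain ⟨M, h⟩ := exists_loc (isPGroup_US p) hF hR
  by_cases hno : ∀ g ∈ F.autGroup R, Inv g (Z1 K) → g ∈ M
  · exact Or.inr (h.L1 hno)
  · push Not at hno
    obtain ⟨g, hg, h1, hb⟩ := hno
    exact Or.inl (h.L2 hg hb h1)

end Cfsg.Agent.U5
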