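import Cfsg.Agent.Lib.U5.Lin1a

/-!
# S5258: recognising `SU₃(q)` on `K × K × K`, part b (see notes/U5.md, section Lin1)
-/

set_option autoImplicit false
set_option linter.unusedSectionVars false
set_option linter.unusedVariables false

namespace Cfsg.Agent.U5

variable {K : Type*} [Field K] [StarRing K] [hK : UF K]

/-- a point of the line with parameters `η₁, η₂, a, b` -/
def lpt (e1 e2 a b ξ : K) : K × K × K := (ξ, e1 * ξ + e2 * star ξ, a * ξ + b * star ξ)

/-- `γ ℓ` is the line with parameters `η₁, η₂, a, b` -/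
def IsLn (γ : (K × K × K) ≃ₗ[ℤ] (K × K × K)) (e1 e2 a b : K) : Prop :=
  (∀ ζ, ∃ ξ, γ (0, 0, ζ) = lpt e1 e2 a b ξ) ∧ ∀ ξ, ∃ ζ, γ (0, 0, ζ) = lpt e1 e2 a b ξ

theorem ln_coef {x y : K} (h : ∀ ξ, x * ξ + y * star ξ = 0) : x = 0 ∧ y = 0 := by
  obtain ⟨θ, hθ⟩ := exists_star_ne K
  have h1 := h 1
  rw [star_one] at h1
  have : x * (θ - star θ) = 0 := by linear_combination h θ - star θ * h1
  have hx := (mul_eq_zero.1 this).resolve_right (sub_ne_zero.2 hθ.symm)
  exact ⟨hx, by linear_combination h1 - hx⟩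

theorem ln_perp1 {v : K × K × K} (h : ∀ ζ, BB v (0, 0, ζ) = 0) : v.1 = 0 :=
  (ln_coef (y := v.1) (x := -star v.1) fun ζ => by
    have := h ζ
    simp only [BB, hh, star_zero] at this
    linear_combination this).2

theorem ln_perp2 {v : K × K × K} (h : ∀ η, BB v (0, η, 0) = 0) : v.2.1 = 0 :=
  (ln_coef (y := v.2.1) (x := -star v.2.1) fun ζ => by
    have := h ζ
    simp only [BB, hh, star_zero] at this
    linear_combination this).2

section X

variable {X : Subgroup ((K × K × K) ≃ₗ[ℤ] (K × K × K))} {γ δ : (K × K × K) ≃ₗ[ℤ] (K × K × K)}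
  {e1 e2 a b e2' a' b' α c : K}

theorem ln_inv (δ : (K × K × K) ≃ₗ[ℤ] (K × K × K)) (v : K × K × K) : δ⁻¹ (δ v) = v :=
  δ.symm_apply_apply v

theorem ln_inv' (δ : (K × K × K) ≃ₗ[ℤ] (K × K × K)) (v : K × K × K) : δ (δ⁻¹ v) = v :=
  δ.apply_symm_apply v

theorem IsLn.uu (h : IsLn γ e1 e2 a b) (hδ : ∀ v, δ v = uu α c v) :
    IsLn (δ * γ) (e1 + α) e2 (a + c - star α * e1) (b - star α * e2) := by
  have key : ∀ ξ, δ (lpt e1 e2 a b ξ) =
      lpt (e1 + α) e2 (a + c - star α * e1) (b - star α * e2) ξ := fun ξ => by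
    rw [hδ]
    ext <;> simp only [U5.uu, lpt] <;> ring
  exact ⟨fun ζ => (h.1 ζ).imp fun ξ e => (congrArg δ e).trans (key ξ),
    fun ξ => (h.2 ξ).imp fun ζ e => (congrArg δ e).trans (key ξ)⟩

variable (hB : ∀ γ ∈ X, ∀ v w, BB v w = 0 → BB (γ v) (γ w) = 0)
  (hK' : ∀ γ ∈ X, ¬ FixL γ → ∀ ζ : K, ζ ≠ 0 → (γ (0, 0, ζ)).1 ≠ 0)
  (hU : ∀ α c : K, c + star c + α * star α = 0 → ∃ γ ∈ X, ∀ v, γ v = uu α c v)

include hB in
theorem IsLn.iso (hγ : γ ∈ X) (h : IsLn γ e1 e2 a b) :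
    a + star a + e1 * star e1 = e2 * star e2 := by
  obtain ⟨θ, hθ⟩ := exists_star_ne K
  obtain ⟨ζ, h1⟩ := h.2 θ
  obtain ⟨ζ', h2⟩ := h.2 1
  have := hB γ hγ (0, 0, ζ) (0, 0, ζ') (by simp [BB, hh])
  rw [h1, h2] at this
  simp only [BB, hh, lpt, star_add, star_mul', star_star, star_one] at this
  refine mul_right_cancel₀ (sub_ne_zero.2 hθ.symm) ?_
  linear_combination this

include hB hK'

theorem exists_ln (hγ : γ ∈ X) (h : ¬ FixL γ) : ∃ e1 e2 a b, IsLn γ e1 e2 a b := by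
  have add : ∀ x y : K, γ (0, 0, x + y) = γ (0, 0, x) + γ (0, 0, y) := fun x y => by
    rw [← map_add]; simp
  have h0 : ∀ x : K, (γ (0, 0, x)).1 = 0 → x = 0 := fun x e => by_contra fun h1 => hK' γ hγ h x h1 e
  choose s hs using surj_of_ker (f := fun x => (γ (0, 0, x)).1) (fun x y => by rw [add]; rfl) h0
  replace hs : ∀ x, (γ (0, 0, s x)).1 = x := hs
  have inj : ∀ x y : K, (γ (0, 0, x)).1 = (γ (0, 0, y)).1 → x = y := fun x y e =>
    sub_eq_zero.1 (h0 _ (by
      have := add (x - y) y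
      rw [sub_add_cancel] at this
      rw [this, Prod.fst_add] at e
      simpa using e))
  have s1 : ∀ x y, γ (0, 0, s (x + y)) = γ (0, 0, s x) + γ (0, 0, s y) := fun x y => by
    rw [← add, inj (s (x + y)) (s x + s y) (by rw [add, Prod.fst_add, hs, hs, hs])]
  have s2 : ∀ t x, star t = t → γ (0, 0, s (t * x)) = t • γ (0, 0, s x) := fun t x ht => by
    have k : ∀ w : K × K × K, w.1 = 0 → BB (γ⁻¹ (t • γ (0, 0, s x))) w = 0 := fun w hw => by
      have h1 := hB γ hγ (0, 0, s x) w (by simp [BB, hh, hw])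
      have h2 := hB γ⁻¹ (inv_mem hγ) (t • γ (0, 0, s x)) (γ w) (by
        simp only [BB, hh, Prod.smul_fst, Prod.smul_snd, smul_eq_mul, star_mul', ht] at h1 ⊢
        linear_combination t * h1)
      rwa [ln_inv] at h2
    have e : t • γ (0, 0, s x) = γ (0, 0, (γ⁻¹ (t • γ (0, 0, s x))).2.2) := by
      conv_lhs => rw [← ln_inv' γ (t • γ (0, 0, s x))]
      congr 1
      exact Prod.ext (ln_perp1 fun _ => k _ rfl) (Prod.ext (ln_perp2 fun _ => k _ rfl) rfl)
    rw [e, inj (s (t * x)) _ (by rw [← e, hs, Prod.smul_fst, hs, smul_eq_mul])]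
  obtain ⟨e1, e2, h1⟩ := exists_lin (f := fun x => (γ (0, 0, s x)).2.1)
    (fun x y => by rw [s1]; rfl) fun t x ht => by rw [s2 t x ht]; rfl
  obtain ⟨a, b, h2⟩ := exists_lin (f := fun x => (γ (0, 0, s x)).2.2)
    (fun x y => by rw [s1]; rfl) fun t x ht => by rw [s2 t x ht]; rfl
  have key : ∀ ξ, γ (0, 0, s ξ) = lpt e1 e2 a b ξ := fun ξ =>
    Prod.ext (hs ξ) (Prod.ext (h1 ξ) (h2 ξ))
  exact ⟨e1, e2, a, b, fun ζ => ⟨_, by rw [← key, inj _ ζ (hs _)]⟩, fun ξ => ⟨_, key ξ⟩⟩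

theorem ln_pair (hδ : δ ∈ X) (hγ : γ ∈ X) (h1 : IsLn δ 0 e2 a b) (h2 : IsLn γ α e2' a' b') {x y : K}
    (hx : x = star a' + a - star e2 * e2') (hy : y = star b' - α * star e2 - star b)
    (h : x * star x = y * star y) : α = 0 ∧ b' = b := by
  obtain ⟨ξ, h0, e⟩ := exists_h90 h
  obtain ⟨ζ, hζ⟩ := h2.2 ξ
  have f : FixL (δ⁻¹ * γ) := by_contra fun hf => hK' _ (mul_mem (inv_mem hδ) hγ) hf ζ
    (fun e' => h0 (by
      rw [e', show ((0, 0, 0) : K × K × K) = 0 from rfl, map_zero] at hζ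
      exact (congrArg Prod.fst hζ).symm))
    (ln_perp1 fun ζ' => by
      obtain ⟨ξ', h3⟩ := h1.1 ζ'
      have := hB δ⁻¹ (inv_mem hδ) (γ (0, 0, ζ)) (δ (0, 0, ζ')) (by
        have e' := congrArg star e
        rw [hζ, h3]
        subst hx hy
        simp only [BB, hh, lpt, star_add, star_sub, star_mul', star_star, star_zero] at e' ⊢
        linear_combination star ξ' * e' - ξ' * e)
      rwa [ln_inv] at this)
  have key : ∀ ξ, lpt α e2' a' b' ξ = lpt 0 e2 a b ξ := fun ξ => by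
    obtain ⟨ζ, h3⟩ := h2.2 ξ
    obtain ⟨ξ', h4⟩ := h1.1 ((δ⁻¹ * γ) (0, 0, ζ)).2.2
    have h5 : lpt α e2' a' b' ξ = lpt 0 e2 a b ξ' := by
      rw [← h3, ← h4, ← ln_inv' δ (γ (0, 0, ζ))]
      congr 1
      exact Prod.ext (f ζ).1 (Prod.ext (f ζ).2 rfl)
    rw [h5, show ξ = ξ' from congrArg Prod.fst h5]
  refine ⟨(ln_coef (y := e2' - e2) fun ξ => ?_).1,
    sub_eq_zero.1 (ln_coef (x := a' - a) fun ξ => ?_).2⟩
  · have := congrArg (·.2.1) (key ξ)
    simp only [lpt] at this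
    linear_combination this
  · have := congrArg (·.2.2) (key ξ)
    simp only [lpt] at this
    linear_combination this

include hU

theorem ln_two (hγ : γ ∈ X) (h : IsLn γ 0 e2 a b) : 2 * e2 = 0 := by
  obtain ⟨α, hα⟩ := exists_norm (r := 16 * (e2 * star e2)) (by simp [mul_comm])
  obtain ⟨δ, hδ, e⟩ := hU α (-8 * (e2 * star e2)) (by
    simp only [star_mul', star_neg, star_ofNat, star_star]
    linear_combination hα)
  have h1 := h.iso hB hγ
  have h2 := (ln_pair hB hK' hγ (mul_mem hδ hγ) h (h.uu e) (x := -8 * (e2 * star e2))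
    (y := -2 * α * star e2) (by
      simp only [star_mul', star_neg, star_ofNat, star_star, star_add, star_sub, star_zero] at h1 ⊢
      linear_combination -h1) (by
      simp only [star_mul', star_star, star_sub]
      ring) (by
      simp only [star_mul', star_neg, star_ofNat, star_star]
      linear_combination (-4 * (e2 * star e2)) * hα)).1
  rw [zero_add] at h2
  have h3 : 4 * e2 = 0 := norm_eq_zero.1 (by
    rw [h2, zero_mul] at hα
    simp only [star_mul', star_ofNat]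
    linear_combination -hα)
  exact (mul_eq_zero.1 (show 2 * (2 * e2) = 0 by linear_combination h3)).elim
    (fun e => by rw [e, zero_mul]) id

theorem ln_same (hγ : γ ∈ X) (hδ : δ ∈ X) (h : IsLn γ 0 e2 a b) (h' : IsLn δ 0 e2' a' b') :
    e2' = e2 ∧ b' = b := by
  have t1 := ln_two hB hK' hU hγ h
  have t2 := ln_two hB hK' hU hδ h'
  have i1 := h.iso hB hγ
  have i2 := h'.iso hB hδ
  have e : e2' = e2 := by
    by_contra hne
    have h2 : (2 : K) = 0 := by_contra fun h2 => hne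
      (((mul_eq_zero.1 t2).resolve_left h2).trans ((mul_eq_zero.1 t1).resolve_left h2).symm)
    obtain ⟨y, hy⟩ : ∃ y, y = star b' - (e2 + e2') * star (e2 + e2') - star b := ⟨_, rfl⟩
    obtain ⟨r, hr⟩ := surj_of_ker (f := fun x : K => x * x)
      (fun x y => by linear_combination x * y * h2) (fun x e => mul_self_eq_zero.1 e) (y * star y)
    replace hr : r * r = y * star y := hr
    have r1 : star r = r := by
      have := congrArg star hr
      simp only [star_mul', star_star] at this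
      exact sub_eq_zero.1 (mul_self_eq_zero.1 (by
        linear_combination this - hr + (r * r - r * star r) * h2))
    obtain ⟨u, hu, e⟩ := hU (e2 + e2') (r - a' - star a + e2 * star e2') (by
      simp only [star_mul', star_star, star_add, star_sub, star_zero, r1] at i1 i2 ⊢
      linear_combination -i1 - i2 + (r + e2 * star e2' + e2' * star e2) * h2)
    have := (ln_pair hB hK' hγ (mul_mem hu hδ) h (h'.uu e) (x := r) (y := y) (by
      simp only [star_mul', star_star, star_add, star_sub, star_zero, r1]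
      ring) (by
      simp only [hy, star_mul', star_star, star_add, star_sub]
      ring) (by rw [r1, hr])).1
    exact hne (by linear_combination this - t1)
  subst e
  obtain ⟨α, hα⟩ := exists_alpha (b' - b - a' - star a + e2' * star e2')
  obtain ⟨u, hu, e⟩ := hU _ _ hα
  have t3 := congrArg star t1
  obtain ⟨h1, h2⟩ := ln_pair hB hK' hγ (mul_mem hu hδ) h (h'.uu e) (x := star b' - star b)
    (y := star b' - star b) (by
      simp only [star_mul', star_star, star_add, star_sub, star_zero]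
      ring) (by
      simp only [star_mul', star_star, star_sub, star_zero, star_ofNat] at t3 ⊢
      linear_combination α * t3) rfl
  rw [zero_add] at h1
  exact ⟨rfl, by simpa [h1] using h2⟩

theorem ln_norm (hγ : γ ∈ X) (h : IsLn γ e1 e2 a b) :
    ∃ δ ∈ X, ∃ a', IsLn δ 0 e2 a' (b + star e1 * e2) := by
  obtain ⟨c, hc⟩ := exists_trace (r := -(e1 * star e1)) (by simp [mul_comm])
  obtain ⟨u, hu, e⟩ := hU (-e1) c (by rw [hc, star_neg]; ring)
  have := h.uu e
  rw [add_neg_cancel, star_neg, neg_mul, neg_mul, sub_neg_eq_add, sub_neg_eq_add] at this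
  exact ⟨_, mul_mem hu hγ, _, this⟩

end X

/-- the straightening map -/
def lnPhi (e a b : K) : (K × K × K) ≃ₗ[ℤ] (K × K × K) :=
  AddEquiv.toIntLinearEquiv
    { toFun := fun v => (v.1, v.2.1 + e * star v.1, v.2.2 + e * star v.2.1 + a * v.1 + b * star v.1)
      invFun := fun v => (v.1, v.2.1 - e * star v.1,
        v.2.2 - e * (star v.2.1 - star e * v.1) - a * v.1 - b * star v.1)
      left_inv := fun v => by ext <;> simp <;> ring
      right_inv := fun v => by ext <;> simp <;> ring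
      map_add' := fun v w => by ext <;> simp <;> ring }

theorem lnPhi_apply (e a b : K) (v : K × K × K) : lnPhi e a b v =
    (v.1, v.2.1 + e * star v.1, v.2.2 + e * star v.2.1 + a * v.1 + b * star v.1) := rfl

theorem lin1 {X : Subgroup ((K × K × K) ≃ₗ[ℤ] (K × K × K))}
    (hB : ∀ γ ∈ X, ∀ v w, BB v w = 0 → BB (γ v) (γ w) = 0)
    (hU : ∀ α c : K, c + star c + α * star α = 0 → ∃ γ ∈ X, ∀ v, γ v = uu α c v)
    (hK : ∀ γ ∈ X, ¬ FixL γ → ∀ ζ : K, ζ ≠ 0 → (γ (0, 0, ζ)).1 ≠ 0)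
    (hex : ∃ γ ∈ X, ¬ FixL γ)
    (hS : ∀ γ ∈ X, FixL γ → ∃ σ : K ≃+* K, ∀ (t : K) v, γ (t • v) = σ t • γ v) :
    (∀ c : K, c ≠ 0 → ∃ γ ∈ X, ∀ v, γ v = mm c v) ∧
    ∀ γ ∈ X, ¬ FixL γ → ∃ α c : K, c + star c + α * star α = 0 ∧
      ∀ ζ : K, ∃ ξ : K, γ (0, 0, ζ) = (ξ, ξ * α, ξ * c) := by
  obtain ⟨γ0, h0, h0'⟩ := hex
  obtain ⟨_, e, _, _, h1⟩ := exists_ln hB hK h0 h0'
  obtain ⟨γ1, h2, a, h3⟩ := ln_norm hB hK hU h0 h1
  generalize _ + _ * e = b at h3
  have t1 := ln_two hB hK hU h2 h3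
  have i1 := h3.iso hB h2
  rw [zero_mul, add_zero] at i1
  have ln : ∀ γ ∈ X, ¬ FixL γ → ∃ α c : K, c + star c + α * star α = 0 ∧
      ∀ ζ : K, ∃ ξ : K, γ (0, 0, ζ) = lnPhi e a b (ξ, ξ * α, ξ * c) := fun γ hγ hf => by
    obtain ⟨e1, e2, a1, b1, h4⟩ := exists_ln hB hK hγ hf
    obtain ⟨δ, h5, a2, h6⟩ := ln_norm hB hK hU hγ h4
    obtain ⟨rfl, h7⟩ := ln_same hB hK hU h2 h5 h3 h6
    refine ⟨e1, a1 - a, by rw [star_sub]; linear_combination h4.iso hB hγ - i1,
      fun ζ => (h4.1 ζ).imp fun ξ h8 => h8.trans ?_⟩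
    ext <;> simp only [lpt, lnPhi_apply, star_mul']
    · ring
    · linear_combination star ξ * h7 - star e1 * star ξ * t1
  have p0 : ∀ ζ, lnPhi e a b (0, 0, ζ) = (0, 0, ζ) := fun ζ => by simp [lnPhi_apply]
  have p1 : ∀ ζ, (lnPhi e a b)⁻¹ (0, 0, ζ) = (0, 0, ζ) := fun ζ => by
    conv_lhs => rw [← p0, ln_inv]
  have pB : ∀ v w, BB (lnPhi e a b v) (lnPhi e a b w) = BB v w := fun v w => by
    simp only [BB, hh, lnPhi_apply, star_add, star_mul', star_star]
    linear_combination (v.1 * star w.1 - w.1 * star v.1) * i1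
  have pF : ∀ γ, FixL (lnPhi e a b * γ * (lnPhi e a b)⁻¹) ↔ FixL γ := fun γ =>
    forall_congr' fun ζ => by
      change (lnPhi e a b (γ ((lnPhi e a b)⁻¹ _))).1 = 0 ∧
        (lnPhi e a b (γ ((lnPhi e a b)⁻¹ _))).2.1 = 0 ↔ _
      rw [p1, lnPhi_apply]
      exact and_congr_right fun h : (γ (0, 0, ζ)).1 = 0 => by simp [h]
  have mm' := fun c (hc : c ≠ 0) => lin1_mm
    (X := X.comap (MulAut.conj (lnPhi e a b)).toMonoidHom) (fun γ hγ v w h => by
      have := hB _ hγ _ _ ((pB v w).trans h)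
      change BB (lnPhi e a b (γ ((lnPhi e a b)⁻¹ _))) (lnPhi e a b (γ ((lnPhi e a b)⁻¹ _))) = 0
        at this
      rwa [ln_inv, ln_inv, pB] at this)
    (fun α c h => by
      obtain ⟨γ, hγ, h4⟩ := hU α c h
      refine ⟨(lnPhi e a b)⁻¹ * γ * lnPhi e a b, by simpa [mul_assoc] using hγ, fun v => ?_⟩
      change (lnPhi e a b)⁻¹ (γ (lnPhi e a b v)) = _
      rw [← ln_inv (lnPhi e a b) (uu α c v), h4]
      congr 1
      ext <;> simp only [uu, lnPhi_apply, star_add, star_mul']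
      · ring
      · linear_combination (-star α * star v.1) * t1)
    (fun γ hγ hf => by
      obtain ⟨α, c, h4, h5⟩ := ln _ hγ (mt (pF γ).1 hf)
      refine ⟨α, c, h4, fun ζ => ?_⟩
      obtain ⟨ξ, h6⟩ := h5 ζ
      change lnPhi e a b (γ ((lnPhi e a b)⁻¹ _)) = _ at h6
      rw [p1] at h6
      exact ⟨ξ, (lnPhi e a b).injective h6⟩)
    ⟨(lnPhi e a b)⁻¹ * γ0 * lnPhi e a b, by simpa [mul_assoc] using h0, fun hf =>
      h0' (by simpa [mul_assoc] using (pF _).2 hf)⟩ hc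
  obtain ⟨θ, hθ⟩ := exists_star_ne K
  have θ0 : θ ≠ 0 := fun e => hθ (by simp [e])
  have θ1 : star θ ≠ 0 := star_ne_zero.2 θ0
  have θ2 : θ - 1 ≠ 0 := fun e => hθ (by simp [sub_eq_zero.1 e])
  have θ3 : star θ * star θ - 1 ≠ 0 := fun e => hθ (by
    rcases mul_self_eq_one_iff.1 (sub_eq_zero.1 e) with e | e <;>
      rw [star_eq_iff_star_eq.1 e |>.symm] <;> simp)
  have θ4 : θ - star θ ≠ 0 := sub_ne_zero.2 hθ.symm
  obtain ⟨m1, hm1, f1⟩ := mm' 1 one_ne_zero
  obtain ⟨m2, hm2, f2⟩ := mm' θ θ0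
  have f3 : ∀ v, (m2 * m1) v = (θ * v.1, star θ / θ * v.2.1, v.2.2 / star θ) := fun v => by
    change m2 (m1 v) = _
    simp [f1, f2, mm]
  obtain ⟨σ, hσ⟩ := hS (lnPhi e a b * (m2 * m1) * (lnPhi e a b)⁻¹)
    ((X.comap (MulAut.conj (lnPhi e a b)).toMonoidHom).mul_mem hm2 hm1)
    ((pF _).2 fun ζ => by rw [f3]; simp)
  have f4 : ∀ t : K, ∀ v w, lnPhi e a b w = t • lnPhi e a b v →
      lnPhi e a b ((m2 * m1) w) = σ t • lnPhi e a b ((m2 * m1) v) := fun t v w h => by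
    have := hσ t (lnPhi e a b v)
    rw [← h] at this
    change lnPhi e a b ((m2 * m1) ((lnPhi e a b)⁻¹ _)) =
      _ • lnPhi e a b ((m2 * m1) ((lnPhi e a b)⁻¹ _)) at this
    rwa [ln_inv, ln_inv] at this
  have f5 := f4 θ (1, 0, 0) (θ, e * (θ - star θ),
    b * (θ - star θ) + e * star e * (θ - star θ)) (by
    ext <;> simp [lnPhi_apply] <;> ring)
  rw [f3, f3] at f5
  simp only [lnPhi_apply, Prod.smul_mk, Prod.mk.injEq, smul_eq_mul, star_mul', mul_one, mul_zero,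
    zero_add, star_zero, zero_div] at f5
  obtain ⟨g1, g2, g3⟩ := f5
  rw [← mul_right_cancel₀ θ0 g1] at g2 g3
  obtain rfl : e = 0 := by
    field_simp at g2
    exact (mul_eq_zero.1 (show e * ((θ - star θ) * (θ - 1)) = 0 by
      linear_combination -g2)).resolve_right (mul_ne_zero θ4 θ2)
  obtain rfl : b = 0 := by
    simp only [zero_mul, zero_add, add_zero] at g3
    field_simp at g3
    exact (mul_eq_zero.1 (show b * ((θ - star θ) * (star θ * star θ - 1)) = 0 by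
      linear_combination -g3)).resolve_right (mul_ne_zero θ4 θ3)
  obtain ⟨u, hu, f6⟩ := hU 0 a (by rw [i1]; ring)
  obtain rfl : lnPhi 0 a 0 = u := LinearEquiv.ext fun v => by
    rw [f6]
    ext <;> simp [lnPhi_apply, uu, mul_comm]
  refine ⟨fun c hc => ?_, fun γ hγ hf => ?_⟩
  · obtain ⟨γ, h4, h5⟩ := mm' c hc
    exact ⟨γ, by simpa [mul_assoc] using mul_mem (mul_mem (inv_mem hu) h4) hu, h5⟩
  · obtain ⟨α, c, h4, h5⟩ := ln γ hγ hf
    refine ⟨α, c + a, by rw [star_add]; linear_combination h4 + i1,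
      fun ζ => (h5 ζ).imp fun ξ h6 => h6.trans ?_⟩
    ext <;> simp [lnPhi_apply]
    ring

end Cfsg.Agent.U5
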