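import Cfsg.Agent.Lib.U5.QB
import Cfsg.Agent.Lib.U5.Lin1

/-!
# S5258: the automizer of `Q1` (see notes/U5.md, section Q1)
-/

set_option autoImplicit false
set_option linter.unusedSectionVars false
set_option linter.unusedVariables false

namespace Cfsg.Agent.U5

open Subgroup Cfsg Cfsg.FusionSystem US
open scoped commutatorElement

variable {K : Type*} [Field K] [StarRing K] [hK : UF K] {p : ℕ} [hp : Fact p.Prime] [CharP K p]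
  {x y : US K}

def pi1 (x : US K) : K × K × K := (x.b, x.d, x.e)

theorem pi1_iff : pi1 x = pi1 y ↔ x.b = y.b ∧ x.d = y.d ∧ x.e = y.e := by simp [pi1]

theorem exists_vb1 : ∃ vb : MulAut (Q1 K) →* ((K × K × K) ≃ₗ[ℤ] (K × K × K)),
    ∀ γ, ∀ x ∈ Q1 K, vb γ (pi1 x) = pi1 (equivFun γ x) :=
  exists_vb pi1 (fun x hx y hy => by simp [pi1, hx.1, hx.2, hy.1, hy.2])
    (fun v => ⟨el 0 v.1 0 v.2.1 v.2.2 h00, ⟨rfl, rfl⟩, rfl⟩) fun γ x hx h => by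
      obtain ⟨h1, h2, h3⟩ := (pi1_iff (y := 1)).1 h
      have := inv_Z1 le_rfl γ x hx ⟨hx.1, h1, hx.2, h2, h3⟩
      exact (pi1_iff (y := 1)).2 ⟨this.2.1, this.2.2.2⟩

theorem comm_iff_BB (hx : x ∈ Q1 K) (hy : y ∈ Q1 K) : x * y = y * x ↔ BB (pi1 x) (pi1 y) = 0 := by
  simp only [comm_iff, hx.1, hx.2, hy.1, hy.2, BB, hh, pi1]
  simp only [star_zero, mul_zero, sub_zero, true_and, zero_add, zero_sub]
  constructor <;> intro h <;> linear_combination -h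

theorem inv_mul_mem_Z1' (hx : x ∈ Q1 K) (hy : y ∈ Q1 K) (h : pi1 y = pi1 x) : x⁻¹ * y ∈ Z1 K := by
  obtain ⟨a1, a2, a3⟩ := pi1_iff.1 h
  simp [mem_Z1, hx.1, hx.2, hy.1, hy.2, a1, a2, a3]

theorem fix_Z1 {γ : MulAut (Q1 K)} (h : ∀ x ∈ Q1 K, pi1 (equivFun γ x) = pi1 x) (hy : y ∈ Z1 K) :
    equivFun γ y = y := by
  have a1 : el 0 0 0 (-(om K * y.f)) 0 h00 ∈ Q1 K := ⟨rfl, rfl⟩
  have a2 : el 0 0 0 1 0 h00 ∈ Q1 K := ⟨rfl, rfl⟩
  have k : ∀ u ∈ Q1 K, ∀ v ∈ Q1 K, u.b = 0 → v.b = 0 → u.d = -(om K * y.f) → v.d = 1 →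
      y = ⁅u, v⁆ := fun u hu v hv e1 e2 e3 e4 =>
    ext_Z1 hy (ce_Z1 (.inr (.inr (.inr ⟨hu, hv⟩)))) (by
      rw [ce_f3 ⟨hu.1, e1⟩ ⟨hv.1, e2⟩, e3, e4]
      simp only [star_neg, star_mul', star_f_Z1 hy, star_om, star_one]; ring)
  conv_lhs => rw [k _ a1 _ a2 rfl rfl rfl rfl, ef_ce _ a1 a2]
  exact (k _ (equivFun_mem _ a1) _ (equivFun_mem _ a2) (pi1_iff.1 (h _ a1)).1 (pi1_iff.1 (h _ a2)).1
    (pi1_iff.1 (h _ a1)).2.1 (pi1_iff.1 (h _ a2)).2.1).symm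

variable (K) in
def chY : ℕ → Subgroup (US K)
  | 0 => ⊥
  | 1 => Z1 K
  | 2 => Z2 K
  | 3 => Y5 K
  | _ + 4 => ⊤

theorem chY_mono : Monotone (chY K) := monotone_nat_of_le_succ fun n =>
  match n with
  | 0 => bot_le
  | 1 => Z1_le_Z2
  | 2 => Z2_le_Y5
  | 3 => le_top
  | _ + 4 => le_rfl

theorem chY_cm (t : US K) (i : ℕ) (x : US K) (h : x ∈ Q1 K) (hx : x ∈ chY K (i + 1)) :
    x⁻¹ * (t * x * t⁻¹) ∈ chY K i :=
  match i, hx with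
  | 0, hx => cm_eq_one (comm_Z1 hx t)
  | 1, hx => cm_Z1 (Or.inl hx)
  | 2, hx => cm_Z2 (Or.inl (Y5_le_Z3 hx))
  | 3, _ => show _ ∈ Y5 K by simp [mem_Y5, h.1, h.2]; ring
  | _ + 4, _ => trivial

theorem inv_Y5 {γ : MulAut (Q1 K)} (h : Inv γ (Z2 K)) : Inv γ (Y5 K) := fun x hx hY =>
  ⟨(equivFun_mem γ hx).1, inv_Q2 Z2_le_Q1 h x hx hY.2.1, (equivFun_mem γ hx).2⟩

theorem exists_real (ρ : K) : ∃ α c : K, c + star c + α * star α = 0 ∧ ¬ (α = 0 ∧ c = 0) ∧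
    star c = c ∧ 2 * (α * ρ) = 2 * star (α * ρ) := by
  by_cases h2 : (2 : K) = 0
  · exact ⟨0, 1, by simp [one_add_one_eq_two, h2], by simp, by simp, by simp⟩
  obtain ⟨α, h0, h1⟩ : ∃ α : K, α ≠ 0 ∧ α * ρ = star (α * ρ) := by
    by_cases hρ : ρ = 0
    · exact ⟨1, one_ne_zero, by simp [hρ]⟩
    · exact ⟨star ρ, by simpa using hρ, by simp [mul_comm]⟩
  have e : star (-(α * star α) / 2) = -(α * star α) / 2 := by simp [mul_comm]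
  exact ⟨α, -(α * star α) / 2, by rw [e]; field_simp; ring, fun h => h0 h.1, e, by rw [← h1]⟩

section
variable {M A : Subgroup (MulAut (Q1 K))} (h : Loc p (Q1 K) M A)
include h

theorem q1_norm {γ : MulAut (Q1 K)} (hγ : γ ∈ A) (e : Inv γ (Z2 K)) (t : US K) :
    ∃ s : US K, ∀ x ∈ Q1 K, equivFun γ (t * x * t⁻¹) = s * equivFun γ x * s⁻¹ := by
  obtain ⟨s, hs⟩ := h.conj_of_chain chY_mono rfl (n := 4) rfl chY_cm
    (h.data.conj_mem_A (Loc.cj_T (mem_norm t)) hγ) (conj_mem_chainStab chY_mono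
      (fun i => match i with
        | 0 => Inv.bot | 1 => inv_Z1 le_rfl γ | 2 => e | 3 => inv_Y5 e | _ + 4 => Inv.top)
      ((H7.mem_chainStab chY_mono).2 fun i x hx hi => by
        rw [equivFun_conjAut _ hx]; exact chY_cm t i x hx hi))
  refine ⟨s, fun x hx => ?_⟩
  rw [← hs _ (equivFun_mem _ hx), ef_conj _ _ (equivFun_mem _ hx), equivFun_inv_apply _ hx]

theorem q1_se : SE (Q1 K) (A ⊓ invS (Q1 K) (Z2 K)) A := by
  intro t ht htQ g hg hm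
  refine ⟨hg, ?_⟩
  obtain ⟨k, hk⟩ := h.data.exists_pow_eq_one (Loc.cj_T ht)
  have h1 := h.data.sylow.mem_of_mem_normalizer hm.1 (k := k) (mem_normalizer_of_finite fun a ha => by
    obtain ⟨u, -, hu, rfl⟩ := H9.exists_eq_conjAut ha
    obtain ⟨s, hs⟩ := q1_norm h hm.1 hm.2 u
    exact mem_autInducedBy_iff'.2 ⟨s, trivial, mem_norm s, fun x hx => by
      rw [ef_conj _ _ hx, hs _ (equivFun_mem _ hx), equivFun_apply_inv _ hx]⟩)
    (by rw [conj_pow, hk]; group)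
  obtain ⟨s, -, hsn, rfl'⟩ := H9.exists_eq_conjAut h1
  have hsQ : s ∉ Q1 K := fun hs => htQ (h.cj_inn ht (by
    have := (H9.normalIn_inn le_top (A := ⊤)).2 g⁻¹ trivial _ (H9.conjAut_mem_inn hs hsn)
    rw [← rfl'] at this
    simpa [mul_assoc] using this))
  have e : ∀ x ∈ Q1 K, equivFun g (x⁻¹ * (t * x * t⁻¹)) =
      (equivFun g x)⁻¹ * (s * equivFun g x * s⁻¹) := fun x hx => by
    rw [ef_mul _ (inv_mem hx) (conj_mem_of_mem_normalizer ht hx), ef_inv _ hx,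
      ← equivFun_conjAut hsn (equivFun_mem _ hx), ← rfl', ef_conj _ _ (equivFun_mem _ hx),
      equivFun_inv_apply _ hx]
  have fix : ∀ u, u ∉ Q1 K → ∀ x ∈ Q1 K, x⁻¹ * (u * x * u⁻¹) ∈ Z1 K → x.b = 0 := fun u hu x hx h1 => by
    by_contra hb
    have k1 := h1.2.2.2.1
    rw [cm_d, hx.1] at k1
    have k2 : u.a = 0 := by simpa [hb] using k1
    have k3 := h1.2.2.2.2
    rw [cm_e3 hx.1 k2, hx.2] at k3
    exact hu ⟨k2, by simpa [hb] using k3⟩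
  intro z hz hz2
  have hw := equivFun_mem g hz
  have h2 : (equivFun g z)⁻¹ * (s * equivFun g z * s⁻¹) ∈ Z1 K :=
    e z hz ▸ inv_Z1 le_rfl g _ (h.Z1_le (cm_Z1 (.inl hz2))) (cm_Z1 (.inl hz2))
  have hb := fix s hsQ _ hw h2
  refine ⟨hw.1, hb, hw.2, ?_⟩
  by_cases ha : s.a = 0
  · refine eq_zero_of_real fun y => ?_
    have a1 : el 0 0 0 (star y) 0 h00 ∈ Q1 K := ⟨rfl, rfl⟩
    have a2 := equivFun_mem g⁻¹ a1
    have k1 : (el 0 0 0 (star y) 0 h00)⁻¹ * (s * el 0 0 0 (star y) 0 h00 * s⁻¹) ∈ Z1 K := by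
      have := cm_Z2 (x := el 0 0 0 (star y) 0 h00) (y := s) (.inl ⟨rfl, rfl⟩)
      exact ⟨this.1, this.2.1, this.2.2.1, this.2.2.2, by rw [cm_e1 ⟨rfl, rfl⟩]; simp [ha]⟩
    have k2 := inv_Z1 le_rfl g⁻¹ _ (h.Z1_le k1) k1
    rw [← equivFun_apply_inv g a1, ← e _ a2, equivFun_inv_apply _
      (mul_mem (inv_mem a2) (conj_mem_of_mem_normalizer ht a2))] at k2
    have := (comm_iff.1 (ef_comm g hz a1 (comm_YY (Z2_le_YY hz2) (fix t htQ _ a2 k2)))).2.2.2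
    simp [hw.1, hb] at this
    linear_combination this
  · have := h2.2.2.2.2
    rw [cm_e1 ⟨hw.1, hb⟩, hw.2] at this
    simpa [ha] using this

theorem q1_K {γ : MulAut (Q1 K)} (hγ : γ ∈ A) (e : ¬ Inv γ (Z2 K)) {ζ : K} (hζ : ζ ≠ 0) :
    (equivFun γ (xe ζ)).b ≠ 0 := by
  obtain ⟨U, hU1, hU2, ⟨g, hg, hb, hi⟩, hmax⟩ :=
    exists_max (M := A ⊓ invS (Q1 K) (Z2 K)) (P := A) Z1_le_Z2 Z2_le_Q1 hγ (fun h => e h.2)
      (inv_Z1 le_rfl γ)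
  haveI := normal_of_le_Z2 hU1 hU2
  obtain ⟨κ, hκ, hκ'⟩ := exists_tz K
  have hκ2 : κ + star κ + 0 * star 0 = 0 := by simp [hκ']
  have C1 : ∀ g ∈ A, g ∉ A ⊓ invS (Q1 K) (Z2 K) → Inv g U → ∀ z ∈ Z2 K, z ∉ U →
      (equivFun g z).b ≠ 0 := fun g hg hb hi z hz hzU h0 =>
    hκ (mem_of_max h.hW (q1_se h) le_rfl (fun t ht => h.cj_A ht) (hU2.trans Z2_le_Q1)
      (Z2_le_Q1 hz) (hmax z hz hzU) hg hb hi (fun r _ => hU1 (cm_Z1 (Or.inl hz)))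
      (x := xa 0 κ hκ2) (hU1 (cm_Z1 (.inr (.inr (.inl
        ⟨⟨(equivFun_mem g (Z2_le_Q1 hz)).1, h0⟩, rfl, rfl⟩)))))).2
  by_cases hU : ∀ u ∈ U, u.e = 0
  · have hZ : U ≤ Z1 K := fun u hu =>
      ⟨(hU2 hu).1, (hU2 hu).2.1, (hU2 hu).2.2.1, (hU2 hu).2.2.2, hU u hu⟩
    exact C1 γ hγ (fun h => e h.2) (fun x hx hu => hU1 (inv_Z1 le_rfl γ x hx (hZ hu))) _
      (xe_mem ζ) fun hu => hζ (hU _ hu)
  exfalso
  push Not at hU
  obtain ⟨u, hu, hu0⟩ := hU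
  obtain ⟨z, hz, hzU, hzu⟩ : ∃ z ∈ Z2 K, z ∉ U ∧ z.e * star u.e ≠ star z.e * u.e := by
    obtain ⟨z, hz, hzU⟩ : ∃ z ∈ Z2 K, z ∉ U := by
      by_contra! hle
      exact hb ⟨hg, fun x hx hz => hU2 (hi x hx (hle x hz))⟩
    obtain ⟨θ, hθ⟩ := exists_star_ne K
    have k : θ * u.e * star u.e ≠ star (θ * u.e) * u.e := fun h => hθ (mul_right_cancel₀
      (mul_ne_zero hu0 (star_ne_zero.2 hu0)) (by rw [star_mul'] at h; linear_combination -h))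
    by_cases k1 : xe (θ * u.e) ∈ U; swap
    · exact ⟨_, xe_mem _, k1, k⟩
    by_cases k2 : z.e * star u.e = star z.e * u.e; swap
    · exact ⟨z, hz, hzU, k2⟩
    refine ⟨xe (θ * u.e) * z, mul_mem (xe_mem _) hz, fun h => hzU ((mul_mem_cancel_left k1).1 h),
      fun h => k ?_⟩
    simp only [mul_e, xe_e, xe_b, xe_d, zero_mul, add_zero, sub_zero, star_add] at h
    linear_combination h - k2
  have hzQ := Z2_le_Q1 hz
  have huQ := Z2_le_Q1 (hU2 hu)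
  have hv := equivFun_mem g⁻¹ hzQ
  obtain ⟨α, c, h1, h2, h3, h4⟩ := exists_real ((equivFun g⁻¹ z).b * star (equivFun g⁻¹ z).d)
  have ht : (xa α c h1)⁻¹ ∈ normalizer (Q1 K : Set (US K)) := mem_norm _
  have hv' := conj_mem_of_mem_normalizer ht hv
  have k0 := C1 (g * conjAut _ ht * g⁻¹) (h.data.conj_mem_A (Loc.cj_T ht) hg)
    (fun hm => hb (q1_se h _ ht (fun h => h2 (inv_mem_iff.1 h)) g hg hm))
    ((hi.mul (inv_conjAut' ht)).mul hi.inv) z hz hzU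
  rw [ef_conj _ _ hzQ] at k0
  have k1 := (comm_iff.1 (ef_comm g hv' hzQ (by
    simp [comm_iff, hv.1, hv.2, h3]
    simp only [star_mul', star_star] at h4
    exact ⟨Or.inr (by ring), by linear_combination -h4⟩))).2.2.2
  have k2 := (comm_iff.1 (ef_comm g hv' huQ (by
    have a1 := hU2 (hi.inv u huQ hu)
    have a2 := ef_comm g⁻¹ hzQ (equivFun_mem g⁻¹ huQ) (by
      rw [inv_inv, equivFun_apply_inv _ huQ]; exact comm_YY (Z2_le_YY hz) (Z2_le_Q2 (hU2 hu)))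
    generalize equivFun g⁻¹ u = u' at a1 a2
    simpa [comm_iff, hv.1, hv.2, a1.1, a1.2.1, a1.2.2.1, a1.2.2.2] using a2))).2.2.2
  generalize equivFun g ((xa α c h1)⁻¹ * equivFun g⁻¹ z * (xa α c h1)⁻¹⁻¹) = w at k0 k1 k2
  simp [hz.1, hz.2.1, hz.2.2.1, hz.2.2.2, (hU2 hu).1, (hU2 hu).2.1, (hU2 hu).2.2.1,
    (hU2 hu).2.2.2] at k1 k2
  exact hzu (mul_left_cancel₀ k0 (by linear_combination z.e * k2 - u.e * k1))

end

section
variable {vb : MulAut (Q1 K) →* ((K × K × K) ≃ₗ[ℤ] (K × K × K))}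
  (hvb : ∀ γ, ∀ x ∈ Q1 K, vb γ (pi1 x) = pi1 (equivFun γ x))
include hvb

theorem vb1_ext {γ : MulAut (Q1 K)} {φ : K × K × K → K × K × K}
    (h : ∀ x ∈ Q1 K, pi1 (equivFun γ x) = φ (pi1 x)) (v : K × K × K) : vb γ v = φ v :=
  (hvb γ (el 0 v.1 0 v.2.1 v.2.2 h00) ⟨rfl, rfl⟩).trans (h _ ⟨rfl, rfl⟩)

theorem pi1_conj (t : US K) (hx : x ∈ Q1 K) : pi1 (t * x * t⁻¹) = uu t⁻¹.a t⁻¹.c (pi1 x) := by
  ext <;> simp [pi1, uu, hx.1, hx.2] <;> ring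

theorem vb1_conj (t : US K) (v : K × K × K) :
    vb (conjAut (Q1 K) (mem_norm t)) v = uu t⁻¹.a t⁻¹.c v :=
  vb1_ext hvb (fun x hx => by rw [equivFun_conjAut _ hx, pi1_conj hvb t hx]) v

theorem fixL_iff {γ : MulAut (Q1 K)} : FixL (vb γ) ↔ Inv γ (Z2 K) := by
  refine ⟨fun h x hx h2 => ?_, fun h ζ => ?_⟩
  · have := h x.e
    rw [← show pi1 x = (0, 0, x.e) by simp [pi1, h2.2.1, h2.2.2.2], hvb _ _ hx] at this
    exact ⟨(equivFun_mem γ hx).1, this.1, (equivFun_mem γ hx).2, this.2⟩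
  · have := h _ (Z2_le_Q1 (xe_mem ζ)) (xe_mem ζ)
    rw [show ((0 : K), (0 : K), ζ) = pi1 (xe ζ) from rfl, hvb _ _ (Z2_le_Q1 (xe_mem ζ))]
    exact ⟨this.2.1, this.2.2.2⟩

theorem vb1_fpf {k y : MulAut (Q1 K)} {l : Kˣ} (hl : star (l : K) ≠ l)
    (hk : ∀ x ∈ Q1 K, equivFun k x = tauF (kpar l) x)
    (hy : vb y = 1) (e : k * y * k⁻¹ = y) : y = 1 := by
  have g0 : ∀ x ∈ Q1 K, pi1 (equivFun y x) = pi1 x := fun x hx => by rw [← hvb _ _ hx, hy]; rfl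
  have g1 : ∀ x ∈ Q1 K, x⁻¹ * equivFun y x ∈ Z1 K := fun x hx =>
    inv_mul_mem_Z1' hx (equivFun_mem _ hx) (g0 x hx)
  have hZ : Z1 K ≤ Q1 K := Z1_le_Z2.trans Z2_le_Q1
  have l0 := l.ne_zero
  have l1 : star (l : K) ≠ 0 := by simp
  have key : ∀ (s : K → US K) (w : K), (∀ a, s a ∈ Q1 K) →
      (∀ a b, pi1 (s (a + b)) = pi1 (s a * s b)) →
      (∀ a, pi1 (s (w * a)) = pi1 (tauF (kpar l) (s a))) →
      w ≠ 1 → ∀ a, equivFun y (s a) = s a := fun s w s1 s2 s3 w1 a =>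
    (inv_mul_eq_one.1 (ext_Z1 (g1 _ (s1 a)) (one_mem _) (fpf_core hZ
      (fun z hz r _ => comm_Z1 hz r) g1 (fun z hz => fix_Z1 g0 hz) e s1
      (fun a b => inv_mul_mem_Z1' (mul_mem (s1 a) (s1 b)) (s1 _) (s2 a b))
      (fun a => inv_mul_mem_Z1' (equivFun_mem _ (s1 a)) (s1 _) (by rw [hk _ (s1 a), s3]))
      (g := US.f) (fun z hz z' hz' => by simp [hz.2.1, hz.2.2.2.1, hz.2.2.2.2]) (t := 1)
      (fun z hz => by rw [hk _ (hZ hz), tauF_f]; simp; field_simp) (n := 1) (by simp)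
      (by simpa using w1) a))).symm
  have k1 := key xb (l : K)⁻¹ (fun _ => ⟨rfl, rfl⟩) (fun a b => by simp [pi1])
    (fun a => by simp [pi1]) (fun h => hl (by rw [inv_eq_one.1 h, star_one]))
  have k2 := key (fun a => el 0 0 0 a 0 h00) (l / star (l : K)) (fun _ => ⟨rfl, rfl⟩)
    (fun a b => by simp [pi1]) (fun a => by simp [pi1]; field_simp; simp)
    (fun h => hl ((div_eq_one_iff_eq l1).1 h).symm)
  have k3 := key xe (star (l : K)) (fun _ => ⟨rfl, rfl⟩)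
    (fun a b => by simp [pi1]) (fun a => by simp [pi1]; field_simp; simp)
    (fun h => hl (by rw [← star_star (l : K), h]; simp))
  refine mulEquiv_ext_equivFun fun x hx => ?_
  have a1 : xb x.b ∈ Q1 K := ⟨rfl, rfl⟩
  have a2 : el 0 0 0 x.d 0 h00 ∈ Q1 K := ⟨rfl, rfl⟩
  have a3 : xe x.e ∈ Q1 K := ⟨rfl, rfl⟩
  have h4 := mul_mem (mul_mem a1 a2) a3
  have h5 := inv_mul_mem_Z1' h4 hx (by simp [pi1])
  rw [equivFun_one hx, ← mul_inv_cancel_left (xb x.b * el 0 0 0 x.d 0 h00 * xe x.e) x,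
    ef_mul _ h4 (hZ h5), fix_Z1 g0 h5, ef_mul _ (mul_mem a1 a2) a3, ef_mul _ a1 a2, k1, k2, k3]

variable {F : FusionSystem (⊤ : Subgroup (US K))} (hF : F.IsSaturated p) (hs : Std F)
  {M : Subgroup (MulAut (Q1 K))} (h : Loc p (Q1 K) M (F.autGroup (Q1 K)))
include hF hs h

theorem vb1_std {γ : MulAut (Q1 K)} (hγ : γ ∈ F.autGroup (Q1 K)) (e : FixL (vb γ)) :
    ∃ (t : Par K) (α c : K), F.IsIso ⊤ ⊤ (tauF t) ∧ ∀ v, vb γ v = uu α c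
      (t.b * t.σ v.1, t.a * t.b * t.σ v.2.1, t.a * star (t.a : K) * t.b * t.σ v.2.2) := by
  obtain ⟨f, hf, e1⟩ := exists_ext (isPGroup_US p) hF hγ (q1_norm h hγ ((fixL_iff hvb).1 e))
  obtain ⟨s, t, e2⟩ := hs f hf
  refine ⟨t, s⁻¹.a, s⁻¹.c, isIso_tauF hf e2, vb1_ext hvb fun x hx => ?_⟩
  rw [← e1 x hx, e2, pi1_conj hvb s (by simp [mem_Q1, hx.1, hx.2])]
  rfl

theorem vb1_lin : (∀ c : K, c ≠ 0 → ∃ γ ∈ (F.autGroup (Q1 K)).map vb, ∀ v, γ v = mm c v) ∧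
    ∀ γ ∈ (F.autGroup (Q1 K)).map vb, ¬ FixL γ → ∃ α c : K, c + star c + α * star α = 0 ∧
      ∀ ζ : K, ∃ ξ : K, γ (0, 0, ζ) = (ξ, ξ * α, ξ * c) := by
  refine lin1 ?_ (fun α c h1 => ⟨_, mem_map_of_mem vb (h.cj_A (mem_norm (xa α c h1)⁻¹)),
    fun v => by rw [vb1_conj hvb, inv_inv]; rfl⟩) ?_ ?_ ?_
  · rintro _ ⟨γ, -, rfl⟩ v w e
    have a1 : el 0 v.1 0 v.2.1 v.2.2 h00 ∈ Q1 K := ⟨rfl, rfl⟩
    have a2 : el 0 w.1 0 w.2.1 w.2.2 h00 ∈ Q1 K := ⟨rfl, rfl⟩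
    have := congrArg (equivFun γ) ((comm_iff_BB a1 a2).2 e)
    rw [ef_mul _ a1 a2, ef_mul _ a2 a1, comm_iff_BB (equivFun_mem _ a1) (equivFun_mem _ a2),
      ← hvb _ _ a1, ← hvb _ _ a2] at this
    exact this
  · rintro _ ⟨γ, hγ, rfl⟩ e ζ hζ
    rw [show ((0 : K), (0 : K), ζ) = pi1 (xe ζ) from rfl, hvb _ _ (Z2_le_Q1 (xe_mem ζ))]
    exact q1_K h hγ (fun h => e ((fixL_iff hvb).2 h)) hζ
  · obtain ⟨g, hg, hb⟩ := h.data.exists_not_mem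
    exact ⟨_, mem_map_of_mem vb hg, fun e => hb (h.mem_of_inv hg (inv_Z1 le_rfl g)
      ((fixL_iff hvb).1 e))⟩
  · rintro _ ⟨γ, hγ, rfl⟩ e
    obtain ⟨t, α, c, -, e1⟩ := vb1_std hvb hF hs h hγ e
    exact ⟨t.σ, fun a v => by rw [e1, e1]; ext <;> simp [uu] <;> ring⟩

end

theorem n1_tauF (l : Kˣ) (hx : x ∈ Q1 K) :
    n1 (tauF (kpar (star l)⁻¹) x) = tauF (kpar l) (n1 x) := by
  have l0 := l.ne_zero
  have l1 : star (l : K) ≠ 0 := by simp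
  ext <;> simp only [n1_a, n1_b, n1_c, n1_d, n1_e, n1_f, tauF_a, tauF_b, tauF_c, tauF_d, tauF_e,
    tauF_f, kpar_a, kpar_b, kpar_σ, Units.val_inv_eq_inv_val, Units.coe_star, star_mul', star_inv₀,
    star_star, star_pow] <;> field_simp <;> ring

variable {F : FusionSystem (⊤ : Subgroup (US K))} (hF : F.IsSaturated p) (hs : Std F)
  (hE : F.IsEssential p (Q1 K))
include hF hs hE

theorem q1_k (l : Kˣ) : F.IsIso ⊤ ⊤ (tauF (kpar l)) := by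
  obtain ⟨vb, hvb⟩ := exists_vb1 (K := K)
  obtain ⟨M, h⟩ := exists_loc (isPGroup_US p) hF hE
  have l0 := l.ne_zero
  have l1 : star (l : K) ≠ 0 := by simp
  obtain ⟨_, ⟨γ, hγ, rfl⟩, e⟩ := (vb1_lin hvb hF hs h).1 (l : K)⁻¹ (inv_ne_zero l0)
  obtain ⟨_, ⟨δ, hδ, rfl⟩, e'⟩ := (vb1_lin hvb hF hs h).1 1 one_ne_zero
  obtain ⟨t, α, c, ht, e1⟩ := vb1_std hvb hF hs h (mul_mem hγ hδ) fun ζ => by simp [e, e', mm]
  simp only [map_mul, LinearEquiv.mul_apply, e, e'] at e1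
  have k1 : ∀ a : K, (l : K)⁻¹ * a = t.b * t.σ a := fun a => by
    simpa [mm, uu] using congrArg Prod.fst (e1 (a, 0, 0))
  have k2 : (star (l : K))⁻¹ * l = t.a * t.b := by
    simpa [mm, uu] using congrArg (fun v => v.2.1) (e1 (0, 1, 0))
  have k3 : (t.b : K) = (l : K)⁻¹ := by simpa using (k1 1).symm
  have : t = kpar l := by
    ext
    · rw [k3] at k2; rw [kpar_a]; field_simp at k2 ⊢; rw [k2]
    · simp [k3]
    · next x => simpa [k3] using (k1 x).symm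
  exact this ▸ ht

theorem q1_n : F.IsMor (Q1 K) n1 := by
  obtain ⟨vb, hvb⟩ := exists_vb1 (K := K)
  obtain ⟨M, h⟩ := exists_loc (isPGroup_US p) hF hE
  obtain ⟨N, hN⟩ := exists_aut_of (R := Q1 K) (f := n1) (g := n1)
    (fun x hx y hy => n1_mul hx hy) (fun x _ => n1_mem x) fun x hx => n1_n1 hx
  obtain ⟨_, ⟨γ, hγ, rfl⟩, e⟩ := (vb1_lin hvb hF hs h).1 1 one_ne_zero
  obtain ⟨θ, hθ⟩ := exists_star_ne K
  have n0 : θ ≠ 0 := by rintro rfl; simp at hθ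
  obtain ⟨k, k1, k2⟩ := exists_res (R := Q1 K) (q1_k hF hs hE (star (Units.mk0 θ n0))⁻¹)
    fun x hx => by simp [mem_Q1, hx.1, hx.2]
  obtain ⟨k', k1', k2'⟩ := exists_res (R := Q1 K) (q1_k hF hs hE (Units.mk0 θ n0))
    fun x hx => by simp [mem_Q1, hx.1, hx.2]
  haveI : (Inn (Q1 K)).Normal := normalizer_eq_top_iff.1 (eq_top_iff.2 (le_normalizer_inn ⊤))
  have hNA := mem_of_lift vb (I := Inn (Q1 K)) (F.inn_le_autGroup le_top) (fun i hi => by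
      obtain ⟨t, ht, e⟩ := mem_inn_iff.1 hi
      refine LinearEquiv.ext (vb1_ext hvb (φ := id) fun x hx => ?_)
      rw [equivFun_of_mem _ hx, e]; ext <;> simp [pi1, ht.1, ht.2, hx.1, hx.2])
    (fun δ hδ e => by
      have g0 : ∀ x ∈ Q1 K, pi1 (equivFun δ x) = pi1 x := fun x hx => by rw [← hvb _ _ hx, e]; rfl
      obtain ⟨t, ht, e⟩ := h.inn_of_chain (H7.chain2_monotone (Z1 K)) rfl (n := 2) rfl
        (fun g _ i => match i with | 0 => Inv.bot | 1 => inv_Z1 le_rfl g | _ + 2 => Inv.top) hδ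
        fun i x hx hi => match i, hi with
        | 0, hi => by rw [fix_Z1 g0 hi, inv_mul_cancel]; exact one_mem _
        | 1, _ => inv_mul_mem_Z1' hx (equivFun_mem _ hx) (g0 x hx)
        | _ + 2, _ => trivial
      exact mem_inn_iff.2 ⟨t, ht, fun x => by rw [← e x x.2, equivFun_coe]⟩) hγ (N := N)
    (LinearEquiv.ext fun v => by
      rw [e, vb1_ext hvb (φ := mm 1) fun x hx => by rw [hN x hx]; simp [pi1, mm]])
    k1 k1' (mulEquiv_ext_equivFun fun x hx => by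
      rw [equivFun_mul _ _ hx, equivFun_mul _ _ hx, hN _ (equivFun_mem _ hx), k2 x hx, hN x hx,
        k2' _ (n1_mem x), n1_tauF _ hx])
    fun y hy e => vb1_fpf hvb (l := Units.mk0 θ n0) hθ k2' hy e
  exact (isMor_of_mem_autGroup le_top hNA).congr hN

theorem q1_gen {E : FusionSystem (⊤ : Subgroup (US K))}
    (h1 : ∀ f, F.IsIso ⊤ ⊤ f → E.IsMor ⊤ f) (h2 : E.IsMor (Q1 K) n1) {f : US K → US K}
    (hf : F.IsIso (Q1 K) (Q1 K) f) : E.IsMor (Q1 K) f := by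
  obtain ⟨vb, hvb⟩ := exists_vb1 (K := K)
  obtain ⟨M, h⟩ := exists_loc (isPGroup_US p) hF hE
  have key : ∀ γ ∈ F.autGroup (Q1 K), FixL (vb γ) → E.IsMor (Q1 K) (equivFun γ) := fun γ hγ e => by
    obtain ⟨f, hf, e1⟩ := exists_ext (isPGroup_US p) hF hγ (q1_norm h hγ ((fixL_iff hvb).1 e))
    exact ((h1 f hf).mono le_top).congr e1
  obtain ⟨γ, hγ, e⟩ := hf.exists_aut
  by_cases hc : FixL (vb γ)
  · exact (key γ hγ hc).congr e
  obtain ⟨α, c, hαc, hβ⟩ := (vb1_lin hvb hF hs h).2 _ (mem_map_of_mem vb hγ) hc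
  obtain ⟨N, hN, eN⟩ := ((q1_n hF hs hE).isIso_self fun x _ => n1_mem x).exists_aut
  have k := key (N * (conjAut (Q1 K) (mem_norm (xa α c hαc)) * γ))
    (mul_mem hN (mul_mem (h.cj_A _) hγ)) fun ζ => by
      obtain ⟨ξ, hξ⟩ := hβ ζ
      simp only [map_mul, LinearEquiv.mul_apply, vb1_conj hvb, hξ]
      rw [vb1_ext hvb (φ := mm 1) fun x hx => by rw [eN x hx]; simp [pi1, mm]]
      simp [mm, uu]; ring
  refine ((E.isMor_conj le_rfl (mem_top (xa α c hαc)⁻¹)).comp' (h2.comp' k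
    fun x hx => equivFun_mem _ hx) fun _ _ => trivial).congr fun x hx => ?_
  have hx' := equivFun_mem γ hx
  rw [equivFun_mul _ _ hx, eN _ (equivFun_mem _ hx), n1_n1 (equivFun_mem _ hx),
    equivFun_mul _ _ hx, equivFun_conjAut _ hx', e x hx]
  group

end Cfsg.Agent.U5
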