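import Cfsg.Agent.Lib.U5.QB
import Cfsg.Agent.Lib.U5.Lin2

/-!
# S5258: the automizer of `Q2` (see notes/U5.md, section Q2)
-/

set_option autoImplicit false
set_option linter.unusedSectionVars false
set_option linter.unusedVariables false

namespace Cfsg.Agent.U5

open Subgroup Cfsg Cfsg.FusionSystem US
open scoped commutatorElement

variable {K : Type*} [Field K] [StarRing K] [hK : UF K] {p : ℕ} [hp : Fact p.Prime] [CharP K p]
  {x y : US K}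

def pi2 (x : US K) : K × K := (x.a, x.d)

theorem exists_vb2 : ∃ vb : MulAut (Q2 K) →* ((K × K) ≃ₗ[ℤ] (K × K)),
    ∀ γ, ∀ x ∈ Q2 K, vb γ (pi2 x) = pi2 (equivFun γ x) :=
  exists_vb pi2 (fun x hx y hy => by simp [pi2, mem_Q2.1 hx])
    (fun v => ⟨el v.1 0 _ v.2 0 (hom _), rfl, rfl⟩) fun γ x hx h => by
      have := inv_YY_Q2 γ x hx ⟨congrArg Prod.fst h, hx, congrArg Prod.snd h⟩
      exact Prod.ext this.1 this.2.2

theorem cm_congr2 {x' y' : US K} (hx : x ∈ Q2 K) (hy : y ∈ Q2 K) (hx' : x' ∈ Q2 K)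
    (hy' : y' ∈ Q2 K) (e1 : pi2 x = pi2 x') (e2 : pi2 y = pi2 y') :
    x⁻¹ * (y * x * y⁻¹) = x'⁻¹ * (y' * x' * y'⁻¹) := by
  obtain ⟨a1, a2⟩ := Prod.ext_iff.1 e1
  obtain ⟨a3, a4⟩ := Prod.ext_iff.1 e2
  simp only [pi2] at a1 a2 a3 a4
  ext <;> simp [mem_Q2.1 hx, mem_Q2.1 hy, mem_Q2.1 hx', mem_Q2.1 hy', a1, a2, a3, a4] <;> ring

theorem YY_eq {v w : US K} (hv : v ∈ Q2 K) (hw : w ∈ Q2 K) (hΔ : v.a * w.d ≠ v.d * w.a)
    (hy : y ∈ YY K) : ∃ r ∈ Q2 K, ∃ r' ∈ Q2 K,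
      y = v⁻¹ * (r * v * r⁻¹) * (w⁻¹ * (r' * w * r'⁻¹)) := by
  have h0 : v.a * w.d - v.d * w.a ≠ 0 := sub_ne_zero.2 hΔ
  have sol : ∀ s t : K, ∃ X X' : K, v.a * X + w.a * X' = s ∧ v.d * X + w.d * X' = t := fun s t =>
    ⟨(w.d * s - w.a * t) / (v.a * w.d - v.d * w.a), (v.a * t - v.d * s) / (v.a * w.d - v.d * w.a),
      by rw [← mul_div_assoc, ← mul_div_assoc, ← add_div, div_eq_iff h0]; ring,
      by rw [← mul_div_assoc, ← mul_div_assoc, ← add_div, div_eq_iff h0]; ring⟩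
  obtain ⟨X, X', e1, e2⟩ := sol (om K * y.c) (om K * y.e)
  obtain ⟨Y, Y', e3, e4⟩ := sol (-(om K * star y.e)) (om K * y.f)
  have e1' := congrArg star e1
  have e3' := congrArg star e3
  have e4' := congrArg star e4
  simp [hy.1, hy.2.1, hy.2.2] at e1' e3' e4'
  refine ⟨el (star X) 0 _ (star Y) 0 (hom _), rfl, el (star X') 0 _ (star Y') 0 (hom _), rfl, ?_⟩
  ext <;> simp [mem_Q2.1 hv, mem_Q2.1 hw, hy.1, hy.2.1, hy.2.2]
  · linear_combination e1' - e1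
  · linear_combination e3' - e2
  · linear_combination e4' - e4

theorem fix_YY {γ : MulAut (Q2 K)} (h : ∀ x ∈ Q2 K, pi2 (equivFun γ x) = pi2 x) (hy : y ∈ YY K) :
    equivFun γ y = y := by
  obtain ⟨r, hr, r', hr', e⟩ := YY_eq (v := xa 1 _ (hom 1)) (w := el 0 0 0 1 0 h00) rfl rfl
    (by simp) hy
  have k : ∀ v ∈ Q2 K, ∀ r ∈ Q2 K, equivFun γ (v⁻¹ * (r * v * r⁻¹)) = v⁻¹ * (r * v * r⁻¹) :=
    fun v hv r hr => by
      rw [ef_cm _ hv hr]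
      exact cm_congr2 (equivFun_mem _ hv) (equivFun_mem _ hr) hv hr (h v hv) (h r hr)
  rw [e, ef_mul _ (YY_le_Q2 (cm_YY rfl hr)) (YY_le_Q2 (cm_YY rfl hr')), k _ rfl _ hr, k _ rfl _ hr']

theorem inv_mul_mem_YY (hx : x ∈ Q2 K) (hy : y ∈ Q2 K) (h : pi2 y = pi2 x) : x⁻¹ * y ∈ YY K := by
  obtain ⟨a1, a2⟩ := Prod.ext_iff.1 h
  simp only [pi2] at a1 a2
  simp [mem_YY, mem_Q2.1 hx, mem_Q2.1 hy, a1, a2]

theorem n2_tauF {t t' : Par K} (h : ∀ x, t.σ x = x) (h' : ∀ x, t'.σ x = x)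
    (ha : (t'.a : K) = t.a * t.b) (hb : (t'.b : K) = (t.b : K)⁻¹) (hx : x ∈ Q2 K) :
    n2 (tauF t x) = tauF t' (n2 x) := by
  have := t.b.ne_zero
  have : star (t.b : K) ≠ 0 := by simp
  ext <;> simp only [h, h', ha, hb, mem_Q2.1 hx, n2_a, n2_b, n2_c, n2_d, n2_e, n2_f, tauF_a, tauF_b,
    tauF_c, tauF_d, tauF_e, tauF_f, star_mul', star_inv₀, star_star] <;> field_simp <;> ring

section
variable {vb : MulAut (Q2 K) →* ((K × K) ≃ₗ[ℤ] (K × K))}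
  (hvb : ∀ γ, ∀ x ∈ Q2 K, vb γ (pi2 x) = pi2 (equivFun γ x))
include hvb

theorem vb2_ext {γ : MulAut (Q2 K)} {φ : K × K → K × K}
    (h : ∀ x ∈ Q2 K, pi2 (equivFun γ x) = φ (pi2 x)) (v : K × K) : vb γ v = φ v :=
  (hvb γ (el v.1 0 _ v.2 0 (hom _)) rfl).trans (h _ rfl)

theorem vb2_conj (t : US K) (v : K × K) : vb (conjAut (Q2 K) (mem_norm t)) v = tt t.b v :=
  vb2_ext hvb (fun x hx => by
    rw [equivFun_conjAut _ hx]; ext <;> simp [pi2, tt, mem_Q2.1 hx]; ring) v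

theorem vb2_line (γ : MulAut (Q2 K)) (d d' : K) :
    (vb γ (0, d)).1 * (vb γ (0, d')).2 = (vb γ (0, d)).2 * (vb γ (0, d')).1 := by
  by_contra hΔ
  obtain ⟨κ, hκ, hκ'⟩ := exists_tz K
  have hκ2 : κ + star κ + 0 * star 0 = 0 := by simp [hκ']
  have h0 : xa 0 κ hκ2 ∈ Q2 K := rfl
  have h1 : el 0 0 0 d 0 h00 ∈ Q2 K := rfl
  have h2 : el 0 0 0 d' 0 h00 ∈ Q2 K := rfl
  rw [show ((0 : K), d) = pi2 (el 0 0 0 d 0 h00) from rfl,
    show ((0 : K), d') = pi2 (el 0 0 0 d' 0 h00) from rfl, hvb _ _ h1, hvb _ _ h2] at hΔ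
  obtain ⟨r, hr, r', hr', e⟩ := YY_eq (equivFun_mem γ h1) (equivFun_mem γ h2) hΔ
    (inv_YY_Q2 γ _ h0 ⟨rfl, rfl, rfl⟩)
  have := congrArg (equivFun γ⁻¹) e
  rw [equivFun_inv_apply _ h0, ef_mul _ (YY_le_Q2 (cm_YY (equivFun_mem γ h1) hr))
    (YY_le_Q2 (cm_YY (equivFun_mem γ h2) hr')), ef_cm _ (equivFun_mem γ h1) hr,
    ef_cm _ (equivFun_mem γ h2) hr', equivFun_inv_apply _ h1, equivFun_inv_apply _ h2] at this
  exact hκ (this ▸ mul_mem (cm_Z2 (.inl ⟨rfl, rfl⟩)) (cm_Z2 (.inl ⟨rfl, rfl⟩)) :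
    xa 0 κ hκ2 ∈ Z2 K).2.2.1

theorem vb2_fpf {k y : MulAut (Q2 K)} {t : Par K} (hk : ∀ x ∈ Q2 K, equivFun k x = tauF t x)
    (hσ : ∀ x, t.σ x = x) (h1 : star (t.a : K) ≠ t.a) (h2 : star (t.a * t.b : K) ≠ t.a * t.b)
    (h3 : ∃ n : ℕ, (t.a * star (t.a : K) * t.b) ^ n = 1 ∧ (t.a : K) ^ n ≠ 1 ∧ (t.a * t.b : K) ^ n ≠ 1)
    (hy : vb y = 1) (e : k * y * k⁻¹ = y) : y = 1 := by
  have g0 : ∀ x ∈ Q2 K, pi2 (equivFun y x) = pi2 x := fun x hx => by rw [← hvb _ _ hx, hy]; rfl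
  have g1 : ∀ x ∈ Q2 K, x⁻¹ * equivFun y x ∈ YY K := fun x hx =>
    inv_mul_mem_YY hx (equivFun_mem _ hx) (g0 x hx)
  obtain ⟨n, hn⟩ := exists_pow_real (K := K)
  obtain ⟨m, m1, m2, m3⟩ := h3
  have key : ∀ (s : K → US K) (w : K), (∀ a, s a ∈ Q2 K) →
      (∀ a b, pi2 (s (a + b)) = pi2 (s a * s b)) → (∀ a, pi2 (s (w * a)) = pi2 (tauF t (s a))) →
      w ≠ 0 → star w ≠ w → w ^ m ≠ 1 → ∀ a, equivFun y (s a) = s a := fun s w s1 s2 s3 w0 w1 w2 a => by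
    have c := @fpf_core _ _ _ _ _ K _ _ _ YY_le_Q2 (fun z hz r hr => comm_YY hz hr) _ _ g1
      (fun z hz => fix_YY g0 hz) e s s1
      (fun a b => inv_mul_mem_YY (mul_mem (s1 a) (s1 b)) (s1 _) (s2 a b)) w
      (fun a => inv_mul_mem_YY (equivFun_mem _ (s1 a)) (s1 _) (by rw [hk _ (s1 a), s3]))
    have z := g1 _ (s1 a)
    refine (inv_mul_eq_one.1 (US.ext z.1 z.2.1 ?_ z.2.2 ?_ ?_)).symm
    · exact c (g := US.c) (fun z hz z' hz' => by simp [hz.1]) (t := t.a * star (t.a : K))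
        (fun z hz => by rw [hk _ (YY_le_Q2 hz), tauF_c, hσ])
        ((hn _ (by simp)).2 (by simp [mul_comm])) (fun h => w1 ((hn _ w0).1 h)) a
    · exact c (g := US.e) (fun z hz z' hz' => by simp [hz.2.1, hz.2.2])
        (fun z hz => by rw [hk _ (YY_le_Q2 hz), tauF_e, hσ]) m1 w2 a
    · exact c (g := US.f) (fun z hz z' hz' => by simp [hz.2.1, hz.2.2, hz'.2.1])
        (t := t.a * star (t.a : K) * (t.b * star (t.b : K)))
        (fun z hz => by rw [hk _ (YY_le_Q2 hz), tauF_f, hσ])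
        ((hn _ (by simp)).2 (by simp; ring)) (fun h => w1 ((hn _ w0).1 h)) a
  have k1 := key (fun a => xa a _ (hom a)) t.a (fun _ => rfl) (fun a b => by simp [pi2])
    (fun a => by simp [pi2, hσ]) (by simp) h1 m2
  have k2 := key (fun a => el 0 0 0 a 0 h00) (t.a * t.b) (fun _ => rfl) (fun a b => by simp [pi2])
    (fun a => by simp [pi2, hσ]) (by simp) h2 m3
  refine mulEquiv_ext_equivFun fun x hx => ?_
  have h4 : xa x.a _ (hom x.a) * el 0 0 0 x.d 0 h00 ∈ Q2 K := mul_mem rfl rfl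
  have h5 := inv_mul_mem_YY h4 hx (by simp [pi2])
  rw [equivFun_one hx, ← mul_inv_cancel_left (xa x.a _ (hom x.a) * el 0 0 0 x.d 0 h00) x,
    ef_mul _ h4 (YY_le_Q2 h5), fix_YY g0 h5, ef_mul _ (R := Q2 K) rfl rfl, k1, k2]

variable {M A : Subgroup (MulAut (Q2 K))} (h : Loc p (Q2 K) M A)
include h

theorem vb2_ker {γ : MulAut (Q2 K)} (hγ : γ ∈ A) (e : vb γ = 1) :
    ∃ t ∈ Q2 K, ∀ x ∈ Q2 K, equivFun γ x = t * x * t⁻¹ := by
  have g0 : ∀ x ∈ Q2 K, pi2 (equivFun γ x) = pi2 x := fun x hx => by rw [← hvb _ _ hx, e]; rfl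
  exact h.inn_of_chain (H7.chain2_monotone (YY K)) rfl (n := 2) rfl
    (fun g _ i => match i with | 0 => Inv.bot | 1 => inv_YY_Q2 g | _ + 2 => Inv.top) hγ
    fun i x hx hi => match i, hi with
    | 0, hi => by rw [fix_YY g0 hi, inv_mul_cancel]; exact one_mem _
    | 1, _ => inv_mul_mem_YY hx (equivFun_mem _ hx) (g0 x hx)
    | _ + 2, _ => trivial

theorem vb2_hL : ∀ γ ∈ A.map vb, ∀ d d' : K,
    (γ (0, d)).1 * (γ (0, d')).2 = (γ (0, d)).2 * (γ (0, d')).1 := by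
  rintro _ ⟨γ, -, rfl⟩
  exact vb2_line hvb γ

theorem vb2_hT (β : K) : ∃ γ ∈ A.map vb, ∀ v, γ v = tt β v :=
  ⟨_, mem_map_of_mem vb (h.cj_A (mem_norm (xb β))), vb2_conj hvb _⟩

theorem vb2_hex : ∃ γ ∈ A.map vb, ∃ d : K, (γ (0, d)).1 ≠ 0 := by
  obtain ⟨g, hg, hb⟩ := h.data.exists_not_mem
  refine ⟨_, mem_map_of_mem vb hg, by_contra fun hc => hb ?_⟩
  push Not at hc
  have h3 : ∀ x ∈ Z3 K, equivFun g x ∈ Z3 K := fun x hx => ⟨by
    have := hc x.d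
    rwa [← hx.1, show (x.a, x.d) = pi2 x from rfl, hvb _ _ (Z3_le_Q2 hx), hx.1] at this,
    equivFun_mem g (Z3_le_Q2 hx)⟩
  have h1 : Inv g (Z1 K) := fun z hz hz1 => by
    have e : z = ⁅el 0 0 0 (-(om K * z.f)) 0 h00, el 0 0 0 1 0 h00⁆ :=
      ext_Z1 hz1 (ce_Z1 (.inr (.inr (.inl ⟨⟨rfl, rfl⟩, rfl, rfl⟩)))) (by
        rw [ce_f3 ⟨rfl, rfl⟩ ⟨rfl, rfl⟩]
        simp only [el_d, star_neg, star_mul', star_f_Z1 hz1, star_om, star_one]; ring)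
    rw [e, ef_ce (R := Q2 K) _ rfl rfl]
    exact ce_Z1 (.inr (.inr (.inl ⟨h3 _ ⟨rfl, rfl⟩, h3 _ ⟨rfl, rfl⟩⟩)))
  refine h.mem_of_inv hg h1 fun z hz hz2 => ?_
  have a1 : el 0 0 0 1 0 h00 ∈ Q2 K := rfl
  have a2 : xa (-star z.e) _ (hom _) ∈ Q2 K := rfl
  have k1 := inv_mul_mem_Z1 (ce_Z2 (x := el 0 0 0 1 0 h00) (y := xa (-star z.e) _ (hom _))
    (.inl ⟨rfl, rfl⟩)) hz2 (by rw [ce_e3 ⟨rfl, rfl⟩]; simp)
  have k2 := h1 _ (h.Z1_le k1) k1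
  rw [ef_mul _ (inv_mem (ce_mem a1 a2)) hz, ef_inv _ (ce_mem a1 a2), ef_ce _ a1 a2] at k2
  exact (mul_mem_cancel_left (inv_mem (ce_Z2 (.inl (h3 _ ⟨rfl, rfl⟩))))).1 (Z1_le_Z2 k2)

theorem vb2_norm {γ : MulAut (Q2 K)} (hγ : γ ∈ A) (e : ∀ d : K, (vb γ (0, d)).1 = 0) (t : US K) :
    ∃ s : US K, ∀ x ∈ Q2 K, equivFun γ (t * x * t⁻¹) = s * equivFun γ x * s⁻¹ := by
  obtain ⟨β, hβ⟩ := lin2_fix (vb2_hL hvb h) (vb2_hT hvb h) (vb2_hex hvb h)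
    (mem_map_of_mem vb hγ) e t.b
  obtain ⟨r, -, hr⟩ := vb2_ker hvb h (γ := conjAut (Q2 K) (mem_norm (xb β)⁻¹) *
    (γ * conjAut (Q2 K) (mem_norm t) * γ⁻¹))
    (A.mul_mem (h.cj_A _) (A.mul_mem (A.mul_mem hγ (h.cj_A _)) (A.inv_mem hγ)))
    (LinearEquiv.ext fun v => by
      simp only [map_mul, map_inv, LinearEquiv.mul_apply, vb2_conj hvb, hβ]
      simp [tt])
  refine ⟨xb β * r, fun x hx => ?_⟩
  have hx' := equivFun_mem γ hx
  have := hr _ hx'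
  rw [equivFun_mul _ _ hx', equivFun_conjAut _ (equivFun_mem _ hx'), ef_conj _ _ hx',
    equivFun_inv_apply _ hx] at this
  calc _ = xb β * ((xb β)⁻¹ * equivFun γ (t * x * t⁻¹) * (xb β)⁻¹⁻¹) * (xb β)⁻¹ := by group
    _ = _ := by rw [this]; group

end

variable {F : FusionSystem (⊤ : Subgroup (US K))} (hF : F.IsSaturated p) (hs : Std F)
  (hE : F.IsEssential p (Q2 K))
include hF hs hE

theorem q2_h (ν : Kˣ) : F.IsIso ⊤ ⊤ (tauF (hpar ν)) := by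
  obtain ⟨vb, hvb⟩ := exists_vb2 (K := K)
  obtain ⟨M, h⟩ := exists_loc (isPGroup_US p) hF hE
  obtain ⟨_, ⟨γ, hγ, rfl⟩, e⟩ := lin2_h (vb2_hL hvb h) (vb2_hT hvb h) (vb2_hex hvb h) ν.ne_zero
  obtain ⟨f, hf, e1⟩ := exists_ext (isPGroup_US p) hF hγ (vb2_norm hvb h hγ fun d => by simp [e])
  obtain ⟨s, t, e2⟩ := hs f hf
  have k : ∀ x ∈ Q2 K, ((ν : K)⁻¹ * x.a, ν * x.d) = pi2 (s * tauF t x * s⁻¹) := fun x hx => by
    rw [← e2, e1 x hx, ← hvb _ _ hx, e]; rfl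
  have k1 : ∀ a : K, (ν : K)⁻¹ * a = t.a * t.σ a := fun a => by
    simpa [pi2] using congrArg Prod.fst (k (xa a _ (hom a)) rfl)
  have k2 : (ν : K) = t.a * t.b := by
    have := congrArg Prod.snd (k (el 0 0 0 1 0 h00) rfl)
    simp [pi2] at this
    linear_combination this
  have k3 : (t.a : K) = (ν : K)⁻¹ := by simpa using (k1 1).symm
  have : t = hpar ν := by
    ext
    · simp [k3]
    · rw [k3] at k2; field_simp at k2; rw [hpar_b, k2]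
    · next x => simpa [k3] using (k1 x).symm
  exact this ▸ isIso_tauF hf e2

theorem q2_n (hk : ∀ l : Kˣ, F.IsIso ⊤ ⊤ (tauF (kpar l))) : F.IsMor (Q2 K) n2 := by
  obtain ⟨vb, hvb⟩ := exists_vb2 (K := K)
  obtain ⟨M, h⟩ := exists_loc (isPGroup_US p) hF hE
  obtain ⟨N, hN⟩ := exists_aut_of (R := Q2 K) (f := n2) (g := fun x => n2 (n2 (n2 x)))
    (fun x hx y hy => n2_mul hx hy) (fun x _ => n2_mem x) fun x hx => n2_four hx
  obtain ⟨_, ⟨γ, hγ, rfl⟩, e⟩ := lin2_w (vb2_hL hvb h) (vb2_hT hvb h) (vb2_hex hvb h) one_ne_zero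
  obtain ⟨t, t', i1, i2, s1, s2, ha, hb, h1, h2, h3⟩ : ∃ t t' : Par K, F.IsIso ⊤ ⊤ (tauF t) ∧
      F.IsIso ⊤ ⊤ (tauF t') ∧ (∀ x, t.σ x = x) ∧ (∀ x, t'.σ x = x) ∧ (t'.a : K) = t.a * t.b ∧
      (t'.b : K) = (t.b : K)⁻¹ ∧ star (t'.a : K) ≠ t'.a ∧ star (t'.a * t'.b : K) ≠ t'.a * t'.b ∧
      ∃ n : ℕ, (t'.a * star (t'.a : K) * t'.b) ^ n = 1 ∧ (t'.a : K) ^ n ≠ 1 ∧
        (t'.a * t'.b : K) ^ n ≠ 1 := by
    by_cases hν : ∃ ν : K, star ν ≠ ν ∧ ν * star ν ≠ 1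
    · obtain ⟨ν, n1, n2⟩ := hν
      have n0 : ν ≠ 0 := by rintro rfl; simp at n1
      have n0' : star ν ≠ 0 := by simpa using n0
      obtain ⟨n, hn⟩ := exists_pow_norm (K := K)
      have e1 : ν⁻¹ * ν ^ 2 = ν := by field_simp
      refine ⟨hpar (Units.mk0 ν n0)⁻¹, hpar (Units.mk0 ν n0), q2_h hF hs hE _, q2_h hF hs hE _,
        fun _ => rfl, fun _ => rfl, by simp; field_simp, by simp, by simpa using n1,
        by simpa [e1] using n1, n, ?_, ?_, ?_⟩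
      · rw [hn]; simp; field_simp
      · rw [hn]; simp only [hpar_a, Units.val_mk0, star_inv₀]
        exact fun h => n2 (by field_simp at h; rw [h])
      · rw [hn]; simpa [e1] using n2
    · push Not at hν
      obtain ⟨θ, hθ⟩ := exists_star_ne K
      have n0 : θ ≠ 0 := by rintro rfl; simp at hθ
      have n0' : star θ ≠ 0 := by simpa using n0
      have e1 := hν θ hθ
      have e2 := hν (θ + 1) (by simpa using hθ)
      simp only [star_add, star_one] at e2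
      have e3 : star θ = -1 - θ := by linear_combination e2 - e1
      have e4 : θ ^ 2 + θ + 1 = 0 := by rw [e3] at e1; linear_combination -e1
      have i : F.IsIso ⊤ ⊤ (tauF (hpar (Units.mk0 θ n0) * kpar (Units.mk0 θ n0 ^ 2))) :=
        (IsIso.comp' (q2_h hF hs hE _) (hk _)).congr fun x _ => (tauF_tauF _ _ x).symm
      have ea : ((hpar (Units.mk0 θ n0) * kpar (Units.mk0 θ n0 ^ 2)).a : K) = star θ := by
        simp; field_simp; rw [e3]; linear_combination (2 * θ + 1) * e4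
      have eb : ((hpar (Units.mk0 θ n0) * kpar (Units.mk0 θ n0 ^ 2)).b : K) = 1 := by
        simp [n0]
      have e5 : star θ ≠ 1 := fun h => hθ (by rw [← star_star θ, h]; simp)
      refine ⟨_, _, i, i, fun _ => rfl, fun _ => rfl, by rw [eb, mul_one], by rw [eb, inv_one],
        by rw [ea]; simpa using hθ.symm, by rw [ea, eb]; simpa using hθ.symm, 1, ?_, ?_, ?_⟩
      · rw [ea, eb]; simpa [mul_comm] using e1
      · rw [ea]; simpa using e5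
      · rw [ea, eb]; simpa using e5
  obtain ⟨k, k1, k2⟩ := exists_res (R := Q2 K) i1 fun x hx => by simp [mem_Q2, mem_Q2.1 hx]
  obtain ⟨k', k1', k2'⟩ := exists_res (R := Q2 K) i2 fun x hx => by simp [mem_Q2, mem_Q2.1 hx]
  haveI : (Inn (Q2 K)).Normal := normalizer_eq_top_iff.1 (eq_top_iff.2 (le_normalizer_inn ⊤))
  have hNA := mem_of_lift vb (I := Inn (Q2 K)) (F.inn_le_autGroup le_top) (fun i hi => by
      obtain ⟨t, ht, e⟩ := mem_inn_iff.1 hi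
      refine LinearEquiv.ext (vb2_ext hvb (φ := id) fun x hx => ?_)
      rw [equivFun_of_mem _ hx, e]; ext <;> simp [pi2, mem_Q2.1 ht, mem_Q2.1 hx])
    (fun δ hδ e => by
      obtain ⟨t, ht, e⟩ := vb2_ker hvb h hδ e
      exact mem_inn_iff.2 ⟨t, ht, fun x => by rw [← e x x.2, equivFun_coe]⟩) hγ (N := N)
    (LinearEquiv.ext fun v => by
      rw [e, vb2_ext hvb (φ := fun v => (-v.2, v.1)) fun x hx => by rw [hN x hx]; rfl]; simp)
    k1 k1' (mulEquiv_ext_equivFun fun x hx => by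
      rw [equivFun_mul _ _ hx, equivFun_mul _ _ hx, hN _ (equivFun_mem _ hx), k2 x hx, hN x hx,
        k2' _ (n2_mem x), n2_tauF s1 s2 ha hb hx])
    fun y hy e => vb2_fpf hvb k2' s2 h1 h2 h3 hy e
  exact (isMor_of_mem_autGroup le_top hNA).congr hN

theorem q2_gen (hn : F.IsMor (Q2 K) n2) {E : FusionSystem (⊤ : Subgroup (US K))}
    (h1 : ∀ f, F.IsIso ⊤ ⊤ f → E.IsMor ⊤ f) (h2 : E.IsMor (Q2 K) n2) {f : US K → US K}
    (hf : F.IsIso (Q2 K) (Q2 K) f) : E.IsMor (Q2 K) f := by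
  obtain ⟨vb, hvb⟩ := exists_vb2 (K := K)
  obtain ⟨M, h⟩ := exists_loc (isPGroup_US p) hF hE
  have key : ∀ γ ∈ F.autGroup (Q2 K), (∀ d : K, (vb γ (0, d)).1 = 0) →
      E.IsMor (Q2 K) (equivFun γ) := fun γ hγ e => by
    obtain ⟨f, hf, e1⟩ := exists_ext (isPGroup_US p) hF hγ (vb2_norm hvb h hγ e)
    exact ((h1 f hf).mono le_top).congr e1
  obtain ⟨γ, hγ, e⟩ := hf.exists_aut
  by_cases hc : ∀ d : K, (vb γ (0, d)).1 = 0
  · exact (key γ hγ hc).congr e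
  push Not at hc
  obtain ⟨β, hβ⟩ := lin2_move (vb2_hL hvb h) (mem_map_of_mem vb hγ) hc
  obtain ⟨N, hN, eN⟩ := (hn.isIso_self fun x _ => n2_mem x).exists_aut
  have k := key (N * (conjAut (Q2 K) (mem_norm (xb β)) * γ))
    (mul_mem hN (mul_mem (h.cj_A _) hγ)) fun d => by
      simp only [map_mul, LinearEquiv.mul_apply, vb2_conj hvb]
      rw [vb2_ext hvb (φ := fun v => (-v.2, v.1)) fun x hx => by rw [eN x hx]; rfl]
      simpa using hβ d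
  refine ((E.isMor_conj le_rfl (mem_top (xb β)⁻¹)).comp' (h2.comp' (h2.comp' (h2.comp' k
    fun x hx => equivFun_mem _ hx) fun _ _ => n2_mem _) fun _ _ => n2_mem _)
    fun _ _ => trivial).congr fun x hx => ?_
  have hx' := equivFun_mem γ hx
  rw [equivFun_mul _ _ hx, eN _ (equivFun_mem _ hx), n2_four (equivFun_mem _ hx),
    equivFun_mul _ _ hx, equivFun_conjAut _ hx', e x hx]
  group

end Cfsg.Agent.U5
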