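import Cfsg.Agent.Lib.U5.Field
import Cfsg.Agent.Lib.H9.SC

/-!
# S5258: the Sylow `p`-subgroup of `SU₅(q)` in coordinates (see notes/U5.md)

`⟨a, b, c, d, e, f⟩` is the matrix with rows `(1, b, d, e, f)`, `(0, 1, a, c, *)`,
`(0, 0, 1, -ā, *)`, `(0, 0, 0, 1, -b̄)`, `(0, 0, 0, 0, 1)`, unitary for the antidiagonal form.
-/

set_option autoImplicit false
set_option linter.unusedSectionVars false
set_option linter.unusedVariables false

namespace Cfsg.Agent.U5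

open Subgroup
open scoped commutatorElement

@[ext] structure US (K : Type*) [Field K] [StarRing K] where
  a : K
  b : K
  c : K
  d : K
  e : K
  f : K
  hc : c + star c + a * star a = 0
  hf : f + star f + (b * star e + star b * e + d * star d) = 0

variable {K : Type*} [Field K] [StarRing K]

namespace US

@[simp] theorem star_c (x : US K) : star x.c = -x.c - x.a * star x.a := by
  linear_combination x.hc

@[simp] theorem star_f (x : US K) :
    star x.f = -x.f - (x.b * star x.e + star x.b * x.e + x.d * star x.d) := by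
  linear_combination x.hf

instance : One (US K) := ⟨⟨0, 0, 0, 0, 0, 0, by simp, by simp⟩⟩

instance : Mul (US K) := ⟨fun x y =>
  ⟨x.a + y.a, x.b + y.b, x.c + y.c - x.a * star y.a, x.d + y.d + x.b * y.a,
    x.e + y.e + x.b * y.c - x.d * star y.a,
    x.f + y.f - x.b * (star y.b * y.c + star y.d * y.a + star y.e) +
      x.d * (star y.b * star y.a - star y.d) - x.e * star y.b,
    by simp; ring, by simp; ring⟩⟩

instance : Inv (US K) := ⟨fun x =>
  ⟨-x.a, -x.b, -x.c - x.a * star x.a, x.b * x.a - x.d,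
    x.b * x.c + x.b * x.a * star x.a - x.d * star x.a - x.e,
    -x.f - (x.b * star x.e + star x.b * x.e + x.d * star x.d), by simp; ring, by simp; ring⟩⟩

@[simp] theorem one_a : (1 : US K).a = 0 := rfl
@[simp] theorem one_b : (1 : US K).b = 0 := rfl
@[simp] theorem one_c : (1 : US K).c = 0 := rfl
@[simp] theorem one_d : (1 : US K).d = 0 := rfl
@[simp] theorem one_e : (1 : US K).e = 0 := rfl
@[simp] theorem one_f : (1 : US K).f = 0 := rfl
@[simp] theorem mul_a (x y : US K) : (x * y).a = x.a + y.a := rfl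
@[simp] theorem mul_b (x y : US K) : (x * y).b = x.b + y.b := rfl
@[simp] theorem mul_c (x y : US K) : (x * y).c = x.c + y.c - x.a * star y.a := rfl
@[simp] theorem mul_d (x y : US K) : (x * y).d = x.d + y.d + x.b * y.a := rfl
@[simp] theorem mul_e (x y : US K) : (x * y).e = x.e + y.e + x.b * y.c - x.d * star y.a := rfl
@[simp] theorem mul_f (x y : US K) : (x * y).f = x.f + y.f -
    x.b * (star y.b * y.c + star y.d * y.a + star y.e) +
      x.d * (star y.b * star y.a - star y.d) - x.e * star y.b := rfl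
@[simp] theorem inv_a (x : US K) : x⁻¹.a = -x.a := rfl
@[simp] theorem inv_b (x : US K) : x⁻¹.b = -x.b := rfl
@[simp] theorem inv_c (x : US K) : x⁻¹.c = -x.c - x.a * star x.a := rfl
@[simp] theorem inv_d (x : US K) : x⁻¹.d = x.b * x.a - x.d := rfl
@[simp] theorem inv_e (x : US K) :
    x⁻¹.e = x.b * x.c + x.b * x.a * star x.a - x.d * star x.a - x.e := rfl
@[simp] theorem inv_f (x : US K) :
    x⁻¹.f = -x.f - (x.b * star x.e + star x.b * x.e + x.d * star x.d) := rfl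

instance : Group (US K) := Group.ofLeftAxioms
  (fun x y z => by ext <;> simp <;> ring) (fun x => by ext <;> simp)
  (fun x => by ext <;> simp <;> ring)

instance [Finite K] : Finite (US K) :=
  Finite.of_injective (fun x : US K => (x.a, x.b, x.c, x.d, x.e, x.f)) fun x y h => by
    simp only [Prod.mk.injEq] at h
    exact US.ext h.1 h.2.1 h.2.2.1 h.2.2.2.1 h.2.2.2.2.1 h.2.2.2.2.2

theorem comm_iff {x y : US K} : x * y = y * x ↔
    x.a * star y.a = y.a * star x.a ∧ x.b * y.a = y.b * x.a ∧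
    x.b * y.c - x.d * star y.a = y.b * x.c - y.d * star x.a ∧
    -x.b * (star y.b * y.c + star y.d * y.a + star y.e) +
      x.d * (star y.b * star y.a - star y.d) - x.e * star y.b =
    -y.b * (star x.b * x.c + star x.d * x.a + star x.e) +
      y.d * (star x.b * star x.a - star x.d) - y.e * star x.b := by
  rw [US.ext_iff]
  simp only [mul_a, mul_b, mul_c, mul_d, mul_e, mul_f]
  refine ⟨fun ⟨_, _, h1, h2, h3, h4⟩ => ⟨?_, ?_, ?_, ?_⟩,
    fun ⟨h1, h2, h3, h4⟩ => ⟨add_comm _ _, add_comm _ _, ?_, ?_, ?_, ?_⟩⟩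
  · linear_combination -h1
  · linear_combination h2
  · linear_combination h3
  · linear_combination h4
  · linear_combination -h1
  · linear_combination h2
  · linear_combination h3
  · linear_combination h4

end US

open US

variable (K) in
def Q2 : Subgroup (US K) where
  carrier := {x | x.b = 0}
  one_mem' := rfl
  mul_mem' := fun {x y} hx hy => by simp_all
  inv_mem' := fun {x} hx => by simp_all

variable (K) in
def Q1 : Subgroup (US K) where
  carrier := {x | x.a = 0 ∧ x.c = 0}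
  one_mem' := ⟨rfl, rfl⟩
  mul_mem' := fun {x y} hx hy => by simp_all
  inv_mem' := fun {x} hx => by simp_all

variable (K) in
def Z3 : Subgroup (US K) where
  carrier := {x | x.a = 0 ∧ x.b = 0}
  one_mem' := ⟨rfl, rfl⟩
  mul_mem' := fun {x y} hx hy => by simp_all
  inv_mem' := fun {x} hx => by simp_all

variable (K) in
/-- the centre of `Q2` -/
def YY : Subgroup (US K) where
  carrier := {x | x.a = 0 ∧ x.b = 0 ∧ x.d = 0}
  one_mem' := ⟨rfl, rfl, rfl⟩
  mul_mem' := fun {x y} hx hy => by simp_all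
  inv_mem' := fun {x} hx => by simp_all

variable (K) in
/-- `Q1 ⊓ Q2` -/
def Y5 : Subgroup (US K) where
  carrier := {x | x.a = 0 ∧ x.b = 0 ∧ x.c = 0}
  one_mem' := ⟨rfl, rfl, rfl⟩
  mul_mem' := fun {x y} hx hy => by simp_all
  inv_mem' := fun {x} hx => by simp_all

variable (K) in
def Z2 : Subgroup (US K) where
  carrier := {x | x.a = 0 ∧ x.b = 0 ∧ x.c = 0 ∧ x.d = 0}
  one_mem' := ⟨rfl, rfl, rfl, rfl⟩
  mul_mem' := fun {x y} hx hy => by simp_all
  inv_mem' := fun {x} hx => by simp_all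

variable (K) in
def Z1 : Subgroup (US K) where
  carrier := {x | x.a = 0 ∧ x.b = 0 ∧ x.c = 0 ∧ x.d = 0 ∧ x.e = 0}
  one_mem' := ⟨rfl, rfl, rfl, rfl, rfl⟩
  mul_mem' := fun {x y} hx hy => by simp_all
  inv_mem' := fun {x} hx => by simp_all

variable {x y : US K}

theorem mem_Q2 : x ∈ Q2 K ↔ x.b = 0 := Iff.rfl
theorem mem_Q1 : x ∈ Q1 K ↔ x.a = 0 ∧ x.c = 0 := Iff.rfl
theorem mem_Z3 : x ∈ Z3 K ↔ x.a = 0 ∧ x.b = 0 := Iff.rfl
theorem mem_YY : x ∈ YY K ↔ x.a = 0 ∧ x.b = 0 ∧ x.d = 0 := Iff.rfl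
theorem mem_Y5 : x ∈ Y5 K ↔ x.a = 0 ∧ x.b = 0 ∧ x.c = 0 := Iff.rfl
theorem mem_Z2 : x ∈ Z2 K ↔ x.a = 0 ∧ x.b = 0 ∧ x.c = 0 ∧ x.d = 0 := Iff.rfl
theorem mem_Z1 : x ∈ Z1 K ↔ x.a = 0 ∧ x.b = 0 ∧ x.c = 0 ∧ x.d = 0 ∧ x.e = 0 := Iff.rfl

theorem Z1_le_Z2 : Z1 K ≤ Z2 K := fun x h => ⟨h.1, h.2.1, h.2.2.1, h.2.2.2.1⟩
theorem Z2_le_YY : Z2 K ≤ YY K := fun x h => ⟨h.1, h.2.1, h.2.2.2⟩
theorem Z2_le_Y5 : Z2 K ≤ Y5 K := fun x h => ⟨h.1, h.2.1, h.2.2.1⟩
theorem YY_le_Z3 : YY K ≤ Z3 K := fun x h => ⟨h.1, h.2.1⟩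
theorem Y5_le_Z3 : Y5 K ≤ Z3 K := fun x h => ⟨h.1, h.2.1⟩
theorem Z2_le_Z3 : Z2 K ≤ Z3 K := fun x h => ⟨h.1, h.2.1⟩
theorem Z3_le_Q2 : Z3 K ≤ Q2 K := fun x h => h.2
theorem YY_le_Q2 : YY K ≤ Q2 K := fun x h => h.2.1
theorem Y5_le_Q1 : Y5 K ≤ Q1 K := fun x h => ⟨h.1, h.2.2⟩
theorem Z2_le_Q1 : Z2 K ≤ Q1 K := fun x h => ⟨h.1, h.2.2.1⟩
theorem Z2_le_Q2 : Z2 K ≤ Q2 K := fun x h => h.2.1

/-! commutators `x⁻¹ * (t * x * t⁻¹)` (the form used by `chainStab`) and `⁅x, y⁆` -/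

theorem cm_Z3 (x t : US K) : x⁻¹ * (t * x * t⁻¹) ∈ Z3 K := by simp [mem_Z3]

theorem cm_Z2 (h : x ∈ Z3 K ∨ y ∈ Z3 K ∨ x.a = 0 ∧ y.a = 0) : x⁻¹ * (y * x * y⁻¹) ∈ Z2 K := by
  rcases h with h | h | h <;> simp [mem_Z2, h.1, h.2] <;> ring_nf <;> simp

theorem cm_Z1 (h : x ∈ Z2 K ∨ y ∈ Z2 K ∨ x ∈ Z3 K ∧ y ∈ Z3 K ∨ x ∈ Q1 K ∧ y ∈ Q1 K) :
    x⁻¹ * (y * x * y⁻¹) ∈ Z1 K := by
  rcases h with ⟨h1, h2, h3, h4⟩ | ⟨h1, h2, h3, h4⟩ | ⟨⟨h1, h2⟩, h3, h4⟩ | ⟨⟨h1, h2⟩, h3, h4⟩ <;>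
    simp [mem_Z1, h1, h2, h3, h4] <;> ring_nf <;> simp

theorem cm_YY (hx : x ∈ Q2 K) (hy : y ∈ Q2 K) : x⁻¹ * (y * x * y⁻¹) ∈ YY K := by
  simp [mem_YY, mem_Q2.1 hx, mem_Q2.1 hy]

theorem comm_Z1 (h : x ∈ Z1 K) (y : US K) : x * y = y * x := by
  obtain ⟨h1, h2, h3, h4, h5⟩ := h
  simp [comm_iff, h1, h2, h3, h4, h5]

theorem comm_YY (h : x ∈ YY K) (hy : y ∈ Q2 K) : x * y = y * x := by
  obtain ⟨h1, h2, h3⟩ := h
  simp [comm_iff, h1, h2, h3, mem_Q2.1 hy]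

theorem ce_Z3 (x y : US K) : ⁅x, y⁆ ∈ Z3 K := by simp [mem_Z3, commutatorElement_def]

theorem ce_Z2 (h : x ∈ Z3 K ∨ y ∈ Z3 K ∨ x.a = 0 ∧ y.a = 0) : ⁅x, y⁆ ∈ Z2 K := by
  rcases h with h | h | h <;> simp [mem_Z2, commutatorElement_def, h.1, h.2] <;> ring_nf <;> simp

theorem ce_Z1 (h : x ∈ Z2 K ∨ y ∈ Z2 K ∨ x ∈ Z3 K ∧ y ∈ Z3 K ∨ x ∈ Q1 K ∧ y ∈ Q1 K) :
    ⁅x, y⁆ ∈ Z1 K := by
  rcases h with ⟨h1, h2, h3, h4⟩ | ⟨h1, h2, h3, h4⟩ | ⟨⟨h1, h2⟩, h3, h4⟩ | ⟨⟨h1, h2⟩, h3, h4⟩ <;>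
    simp [mem_Z1, commutatorElement_def, h1, h2, h3, h4] <;> ring_nf <;> simp

theorem normal_of_Z3_le {R : Subgroup (US K)} (h : Z3 K ≤ R) : R.Normal :=
  ⟨fun x hx t => by simpa using mul_mem hx (h (cm_Z3 x t))⟩

theorem normal_of_le_Z2 {R : Subgroup (US K)} (h1 : Z1 K ≤ R) (h : R ≤ Z2 K) : R.Normal :=
  ⟨fun x hx t => by simpa using mul_mem hx (h1 (cm_Z1 (y := t) (Or.inl (h hx))))⟩

instance : (Q2 K).Normal := normal_of_Z3_le Z3_le_Q2
instance : (Z3 K).Normal := normal_of_Z3_le le_rfl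
instance : (Z2 K).Normal := normal_of_le_Z2 Z1_le_Z2 le_rfl
instance : (Z1 K).Normal := normal_of_le_Z2 le_rfl Z1_le_Z2
instance : (Q1 K).Normal := ⟨fun x hx t => by simp [mem_Q1, hx.1, hx.2]; ring⟩
instance : (YY K).Normal := ⟨fun x hx t => by simp [mem_YY, hx.1, hx.2.1, hx.2.2]⟩
instance : (Y5 K).Normal := ⟨fun x hx t => by simp [mem_Y5, hx.1, hx.2.1, hx.2.2]; ring⟩

/-! root elements -/

def xb (b : K) : US K := ⟨0, b, 0, 0, 0, 0, by simp, by simp⟩
def xe (e : K) : US K := ⟨0, 0, 0, 0, e, 0, by simp, by simp⟩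
def xa (a c : K) (h : c + star c + a * star a = 0) : US K := ⟨a, 0, c, 0, 0, 0, h, by simp⟩

@[simp] theorem xb_a (b : K) : (xb b).a = 0 := rfl
@[simp] theorem xb_b (b : K) : (xb b).b = b := rfl
@[simp] theorem xb_c (b : K) : (xb b).c = 0 := rfl
@[simp] theorem xb_d (b : K) : (xb b).d = 0 := rfl
@[simp] theorem xb_e (b : K) : (xb b).e = 0 := rfl
@[simp] theorem xb_f (b : K) : (xb b).f = 0 := rfl
@[simp] theorem xe_a (b : K) : (xe b).a = 0 := rfl
@[simp] theorem xe_b (b : K) : (xe b).b = 0 := rfl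
@[simp] theorem xe_c (b : K) : (xe b).c = 0 := rfl
@[simp] theorem xe_d (b : K) : (xe b).d = 0 := rfl
@[simp] theorem xe_e (b : K) : (xe b).e = b := rfl
@[simp] theorem xe_f (b : K) : (xe b).f = 0 := rfl
section
variable (a c : K) (h : c + star c + a * star a = 0)
@[simp] theorem xa_a : (xa a c h).a = a := rfl
@[simp] theorem xa_b : (xa a c h).b = 0 := rfl
@[simp] theorem xa_c : (xa a c h).c = c := rfl
@[simp] theorem xa_d : (xa a c h).d = 0 := rfl
@[simp] theorem xa_e : (xa a c h).e = 0 := rfl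
@[simp] theorem xa_f : (xa a c h).f = 0 := rfl
end

/-- conjugation by `diag(1, antidiag(1, -1, 1), 1)` on `Q1` -/
def n1 (x : US K) : US K := ⟨0, x.e, 0, -x.d, x.b, x.f, by simp, by simp; ring⟩

/-- conjugation by `diag(A, 1, A')`, `A = [[0, 1], [-1, 0]]`, `A' = -A`, on `Q2` -/
def n2 (x : US K) : US K := ⟨-x.d, 0, x.f + x.b * star x.e, x.a, star x.e + x.a * star x.d, x.c,
  by simp; ring, by simp; ring⟩

@[simp] theorem n1_a (x : US K) : (n1 x).a = 0 := rfl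
@[simp] theorem n1_b (x : US K) : (n1 x).b = x.e := rfl
@[simp] theorem n1_c (x : US K) : (n1 x).c = 0 := rfl
@[simp] theorem n1_d (x : US K) : (n1 x).d = -x.d := rfl
@[simp] theorem n1_e (x : US K) : (n1 x).e = x.b := rfl
@[simp] theorem n1_f (x : US K) : (n1 x).f = x.f := rfl
@[simp] theorem n2_a (x : US K) : (n2 x).a = -x.d := rfl
@[simp] theorem n2_b (x : US K) : (n2 x).b = 0 := rfl
@[simp] theorem n2_c (x : US K) : (n2 x).c = x.f + x.b * star x.e := rfl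
@[simp] theorem n2_d (x : US K) : (n2 x).d = x.a := rfl
@[simp] theorem n2_e (x : US K) : (n2 x).e = star x.e + x.a * star x.d := rfl
@[simp] theorem n2_f (x : US K) : (n2 x).f = x.c := rfl

theorem n1_mem (x : US K) : n1 x ∈ Q1 K := ⟨rfl, rfl⟩
theorem n2_mem (x : US K) : n2 x ∈ Q2 K := rfl

theorem n1_mul (hx : x ∈ Q1 K) (hy : y ∈ Q1 K) : n1 (x * y) = n1 x * n1 y := by
  ext <;> simp [hx.1, hx.2, hy.1, hy.2] <;> ring

theorem n2_mul (hx : x ∈ Q2 K) (hy : y ∈ Q2 K) : n2 (x * y) = n2 x * n2 y := by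
  ext <;> simp [mem_Q2.1 hx, mem_Q2.1 hy] <;> ring

theorem n1_n1 (hx : x ∈ Q1 K) : n1 (n1 x) = x := by ext <;> simp [hx.1, hx.2]

theorem n2_four (hx : x ∈ Q2 K) : n2 (n2 (n2 (n2 x))) = x := by
  ext <;> simp [mem_Q2.1 hx]; ring

variable [hK : UF K]

/-- an element with prescribed first five coordinates -/
noncomputable def el (a b c d e : K) (h : c + star c + a * star a = 0) : US K :=
  ⟨a, b, c, d, e, -(om K * (b * star e + star b * e + d * star d)), h, by simp; ring⟩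

section
variable (a b c d e : K) (h : c + star c + a * star a = 0)
@[simp] theorem el_a : (el a b c d e h).a = a := rfl
@[simp] theorem el_b : (el a b c d e h).b = b := rfl
@[simp] theorem el_c : (el a b c d e h).c = c := rfl
@[simp] theorem el_d : (el a b c d e h).d = d := rfl
@[simp] theorem el_e : (el a b c d e h).e = e := rfl
end

theorem h00 : (0 : K) + star 0 + 0 * star 0 = 0 := by simp

theorem hom (a : K) : -(om K * (a * star a)) + star (-(om K * (a * star a))) + a * star a = 0 := by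
  simp; ring

theorem isPGroup_US (p : ℕ) [hp : Fact p.Prime] [CharP K p] : IsPGroup p (US K) := by
  have step : ∀ (g : US K → K) (P : Subgroup (US K)), (∀ x ∈ P, ∀ y ∈ P, g (x * y) = g x + g y) →
      g 1 = 0 → ∀ x ∈ P, g (x ^ p) = 0 := fun g P h h1 x hx => by
    have : ∀ n : ℕ, g (x ^ n) = n * g x := fun n => by
      induction n with
      | zero => simp [h1]
      | succ n ih => rw [pow_succ, h _ (pow_mem hx n) _ hx, ih]; push_cast; ring
    rw [this, CharP.cast_eq_zero, zero_mul]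
  intro x
  have h1 : x ^ p ∈ Z3 K := ⟨step US.a ⊤ (fun _ _ _ _ => rfl) rfl x trivial,
    step US.b ⊤ (fun _ _ _ _ => rfl) rfl x trivial⟩
  have h2 : (x ^ p) ^ p ∈ Z2 K := ⟨(pow_mem h1 p).1, (pow_mem h1 p).2,
    step US.c (Z3 K) (fun x hx y hy => by simp [hx.1]) rfl _ h1,
    step US.d (Z3 K) (fun x hx y hy => by simp [hx.2]) rfl _ h1⟩
  have h3 := pow_mem h2 p
  refine ⟨3, ?_⟩
  rw [pow_succ, pow_two, pow_mul, pow_mul]
  exact US.ext h3.1 h3.2.1 h3.2.2.1 h3.2.2.2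
    (step US.e (Z2 K) (fun x hx y hy => by simp [hx.2.1, hx.2.2.2]) rfl _ h2)
    (step US.f (Z2 K) (fun x hx y hy => by simp [hx.2.1, hx.2.2.2, hy.2.1]) rfl _ h2)

theorem isPGroup_top (p : ℕ) [hp : Fact p.Prime] [CharP K p] :
    IsPGroup p (⊤ : Subgroup (US K)) := (isPGroup_US p).to_subgroup _

/-! the standard (diagonal and field) automorphisms -/

@[ext] structure Par (K : Type*) [Field K] where
  a : Kˣ
  b : Kˣ
  σ : K ≃+* K

namespace Par

instance : One (Par K) := ⟨⟨1, 1, 1⟩⟩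
instance : Mul (Par K) := ⟨fun s t =>
  ⟨s.a * Units.map (s.σ : K →* K) t.a, s.b * Units.map (s.σ : K →* K) t.b, s.σ * t.σ⟩⟩
instance : Inv (Par K) := ⟨fun s =>
  ⟨Units.map (s.σ.symm : K →* K) s.a⁻¹, Units.map (s.σ.symm : K →* K) s.b⁻¹, s.σ⁻¹⟩⟩

@[simp] theorem one_a : ((1 : Par K).a : K) = 1 := rfl
@[simp] theorem one_b : ((1 : Par K).b : K) = 1 := rfl
@[simp] theorem one_σ (x : K) : (1 : Par K).σ x = x := rfl
@[simp] theorem mul_a (s t : Par K) : ((s * t).a : K) = s.a * s.σ t.a := rfl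
@[simp] theorem mul_b (s t : Par K) : ((s * t).b : K) = s.b * s.σ t.b := rfl
@[simp] theorem mul_σ (s t : Par K) (x : K) : (s * t).σ x = s.σ (t.σ x) := rfl
@[simp] theorem inv_a (s : Par K) : (s⁻¹.a : K) = (s.σ.symm s.a)⁻¹ := by
  rw [← map_inv₀, ← Units.val_inv_eq_inv_val]; rfl
@[simp] theorem inv_b (s : Par K) : (s⁻¹.b : K) = (s.σ.symm s.b)⁻¹ := by
  rw [← map_inv₀, ← Units.val_inv_eq_inv_val]; rfl
@[simp] theorem inv_σ (s : Par K) (x : K) : s⁻¹.σ x = s.σ.symm x := rfl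

instance : Group (Par K) := Group.ofLeftAxioms
  (fun x y z => by ext <;> simp [mul_assoc]) (fun x => by ext <;> simp)
  (fun x => by ext <;> simp)

instance : Finite (Par K) :=
  Finite.of_injective (fun t : Par K => (t.a, t.b, (t.σ : K → K))) fun x y h => by
    simp only [Prod.mk.injEq] at h
    exact Par.ext h.1 h.2.1 (DFunLike.coe_injective h.2.2)

end Par

/-- conjugation by `diag(ab, a, 1, ā⁻¹, (āb̄)⁻¹) ∘ σ` -/
def tauF (t : Par K) (x : US K) : US K :=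
  ⟨t.a * t.σ x.a, t.b * t.σ x.b, t.a * star (t.a : K) * t.σ x.c, t.a * t.b * t.σ x.d,
    t.a * star (t.a : K) * t.b * t.σ x.e,
    t.a * star (t.a : K) * (t.b * star (t.b : K)) * t.σ x.f, by simp; ring, by simp; ring⟩

section
variable (t : Par K) (x : US K)
@[simp] theorem tauF_a : (tauF t x).a = t.a * t.σ x.a := rfl
@[simp] theorem tauF_b : (tauF t x).b = t.b * t.σ x.b := rfl
@[simp] theorem tauF_c : (tauF t x).c = t.a * star (t.a : K) * t.σ x.c := rfl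
@[simp] theorem tauF_d : (tauF t x).d = t.a * t.b * t.σ x.d := rfl
@[simp] theorem tauF_e : (tauF t x).e = t.a * star (t.a : K) * t.b * t.σ x.e := rfl
@[simp] theorem tauF_f :
    (tauF t x).f = t.a * star (t.a : K) * (t.b * star (t.b : K)) * t.σ x.f := rfl
end

theorem tauF_mul (t : Par K) (x y : US K) : tauF t (x * y) = tauF t x * tauF t y := by
  ext <;> simp <;> ring

theorem tauF_one (x : US K) : tauF 1 x = x := by ext <;> simp

theorem tauF_tauF (s t : Par K) (x : US K) : tauF (s * t) x = tauF s (tauF t x) := by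
  ext <;> simp <;> ring

theorem tauF_inv_left (t : Par K) (x : US K) : tauF t⁻¹ (tauF t x) = x := by
  rw [← tauF_tauF, inv_mul_cancel, tauF_one]

theorem tauF_inv_right (t : Par K) (x : US K) : tauF t (tauF t⁻¹ x) = x := by
  rw [← tauF_tauF, mul_inv_cancel, tauF_one]

/-- the standard automorphisms -/
def tau : Par K →* MulAut (US K) where
  toFun t := ⟨⟨tauF t, tauF t⁻¹, tauF_inv_left t, tauF_inv_right t⟩, tauF_mul t⟩
  map_one' := MulEquiv.ext tauF_one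
  map_mul' s t := MulEquiv.ext (tauF_tauF s t)

@[simp] theorem tau_apply (t : Par K) (x : US K) : tau t x = tauF t x := rfl

theorem eq_one_of_tauF {t : Par K} (ha : ∀ x, t.a * t.σ x = x) (hb : ∀ x, t.b * t.σ x = x) :
    t = 1 := by
  have h1 : (t.a : K) = 1 := by simpa using ha 1
  have h2 : (t.b : K) = 1 := by simpa using hb 1
  ext
  · exact h1
  · exact h2
  · next x => simpa [h1] using ha x

/-- `diag(ν, ν⁻¹, 1, ν̄, ν̄⁻¹)` -/
def hpar (ν : Kˣ) : Par K := ⟨ν⁻¹, ν ^ 2, 1⟩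

/-- `diag(1, l, l̄ / l, l̄⁻¹, 1)` -/
def kpar (l : Kˣ) : Par K := ⟨l ^ 2 * (star l)⁻¹, l⁻¹, 1⟩

@[simp] theorem hpar_a (ν : Kˣ) : ((hpar ν).a : K) = (ν : K)⁻¹ := by simp [hpar]
@[simp] theorem hpar_b (ν : Kˣ) : ((hpar ν).b : K) = (ν : K) ^ 2 := by simp [hpar]
@[simp] theorem hpar_σ (ν : Kˣ) (x : K) : (hpar ν).σ x = x := rfl
@[simp] theorem kpar_a (l : Kˣ) : ((kpar l).a : K) = (l : K) ^ 2 * (star (l : K))⁻¹ := by
  simp [kpar]
@[simp] theorem kpar_b (l : Kˣ) : ((kpar l).b : K) = (l : K)⁻¹ := by simp [kpar]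
@[simp] theorem kpar_σ (l : Kˣ) (x : K) : (kpar l).σ x = x := rfl

/-- Every automorphism of `S` in the system is standard modulo inner automorphisms. -/
def Std (F : FusionSystem (⊤ : Subgroup (US K))) : Prop :=
  ∀ f, F.IsIso ⊤ ⊤ f → ∃ (s : US K) (t : Par K), ∀ x, f x = s * tauF t x * s⁻¹

end Cfsg.Agent.U5
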