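import Cfsg.Agent.Lib.H2.GU2Syl

/-!
# S5258: the field with `q²` elements and its involution (see notes/U5.md)
-/

set_option autoImplicit false
set_option linter.unusedSectionVars false
set_option linter.unusedVariables false

namespace Cfsg.Agent.U5

/-- A finite field with `q²` elements whose `star` is `x ↦ x ^ q`. -/
class UF (K : Type*) [Field K] [StarRing K] : Prop where
  fin : Finite K
  ex : ∃ q : ℕ, Nat.card K = q ^ 2 ∧ ∀ x : K, star x = x ^ q

variable {K : Type*} [Field K] [StarRing K] [hK : UF K]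

instance : Finite K := hK.fin

theorem exists_q : ∃ q : ℕ, 2 ≤ q ∧ Nat.card K = q ^ 2 ∧ ∀ x : K, star x = x ^ q := by
  obtain ⟨q, h1, h2⟩ := hK.ex
  refine ⟨q, ?_, h1, h2⟩
  have h3 : 1 < Nat.card K := Finite.one_lt_card
  by_contra h
  have : q ≤ 1 := by omega
  interval_cases q <;> omega

variable (K) in
theorem exists_star_ne : ∃ θ : K, star θ ≠ θ := by
  classical
  obtain ⟨q, hq, h1, hσ⟩ := exists_q (K := K)
  letI := Fintype.ofFinite K
  rw [Nat.card_eq_fintype_card] at h1
  by_contra! h
  have h1' := (FiniteField.forall_pow_eq_one_iff K (q - 1)).1 fun x =>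
    Units.ext (mul_right_cancel₀ x.ne_zero (by
      rw [Units.val_pow_eq_pow_val, ← pow_succ, show q - 1 + 1 = q by omega, ← hσ, h]; simp))
  have h2 := Nat.le_of_dvd (by omega) h1'
  rw [h1] at h2
  have : q < q ^ 2 := by nlinarith
  omega

theorem exists_norm {r : K} (hr : star r = r) : ∃ t : K, t * star t = r := by
  classical
  obtain ⟨q, hq, h1, hσ⟩ := exists_q (K := K)
  letI := Fintype.ofFinite K
  rw [Nat.card_eq_fintype_card] at h1
  by_cases h : r = 0
  · exact ⟨0, by simp [h]⟩
  obtain ⟨t, ht⟩ := (Nat.card_pos_iff.1 (q.succ_pos.trans_eq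
    (H2.card_norm_fiber h1 h (hσ r ▸ hr)).symm)).1
  exact ⟨t, by rw [hσ, ← pow_succ', ht]⟩

@[simp] theorem map_star' (σ : K ≃+* K) (x : K) : star (σ x) = σ (star x) := by
  obtain ⟨q, -, -, hσ⟩ := exists_q (K := K)
  rw [hσ, hσ, map_pow]

variable (K) in
theorem exists_om : ∃ ω : K, ω + star ω = 1 := by
  obtain ⟨θ, h⟩ := exists_star_ne K
  have h1 : θ - star θ ≠ 0 := sub_ne_zero.2 h.symm
  have h2 : star θ - θ ≠ 0 := sub_ne_zero.2 h
  refine ⟨θ / (θ - star θ), ?_⟩
  rw [star_div₀, star_sub, star_star]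
  field_simp
  ring

variable (K) in
/-- a fixed element of trace one -/
noncomputable def om : K := (exists_om K).choose

theorem om_add : om K + star (om K) = 1 := (exists_om K).choose_spec

@[simp] theorem star_om : star (om K) = 1 - om K := by linear_combination om_add (K := K)

theorem om_ne : om K ≠ 0 := fun h => by simpa [h] using om_add (K := K)

variable (K) in
/-- a nonzero element of trace zero -/
theorem exists_tz : ∃ κ : K, κ ≠ 0 ∧ star κ = -κ := by
  obtain ⟨θ, h⟩ := exists_star_ne K
  exact ⟨θ - star θ, sub_ne_zero.2 h.symm, by simp⟩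

theorem exists_trace {r : K} (hr : star r = r) : ∃ c : K, c + star c = r :=
  ⟨om K * r, by simp [hr]; ring⟩

theorem norm_eq_zero {x : K} : x * star x = 0 ↔ x = 0 := by simp

/-- for every `c` there is `α` with `(α, c)` admissible -/
theorem exists_alpha (c : K) : ∃ α : K, c + star c + α * star α = 0 := by
  obtain ⟨t, ht⟩ := exists_norm (r := -(c + star c)) (by simp [add_comm])
  exact ⟨t, by rw [ht]; ring⟩

theorem eq_zero_of_trace {x : K} (h : ∀ y : K, x * y + star x * star y = 0) : x = 0 := by
  obtain ⟨θ, hθ⟩ := exists_star_ne K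
  have h1 := h 1
  have h2 := h θ
  simp only [star_one, mul_one] at h1
  have : x * (θ - star θ) = 0 := by linear_combination h2 - star θ * h1
  exact (mul_eq_zero.1 this).resolve_right (sub_ne_zero.2 hθ.symm)

theorem eq_zero_of_real {x : K} (h : ∀ y : K, x * y = star x * star y) : x = 0 := by
  obtain ⟨θ, hθ⟩ := exists_star_ne K
  have h1 := h 1
  have h2 := h θ
  simp only [star_one, mul_one] at h1
  have : x * (θ - star θ) = 0 := by linear_combination h2 - star θ * h1
  exact (mul_eq_zero.1 this).resolve_right (sub_ne_zero.2 hθ.symm)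

/-- An additive map `K → K` with trivial kernel is onto. -/
theorem surj_of_ker {f : K → K} (ha : ∀ x y, f (x + y) = f x + f y) (h : ∀ x, f x = 0 → x = 0) :
    Function.Surjective f :=
  Finite.surjective_of_injective (f := f)
    ((injective_iff_map_eq_zero (AddMonoidHom.mk' f ha)).2 h)

/-- An additive map `K → K` that is not onto has a nonzero kernel. -/
theorem exists_ker {f : K → K} (ha : ∀ x y, f (x + y) = f x + f y) (y : K) (h : ∀ x, f x ≠ y) :
    ∃ x, x ≠ 0 ∧ f x = 0 := by
  by_contra! h'
  obtain ⟨x, hx⟩ := surj_of_ker ha (fun x hx => by_contra fun h0 => h' x h0 hx) y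
  exact h x hx

/-- The isotopy lemma. -/
theorem isotopy {R S : K → K} (hR : ∀ x y, R (x + y) = R x + R y)
    (hR0 : ∀ x, R x = 0 → x = 0) (hS0 : S 1 ≠ 0) (h : ∀ α, ∃ μ, ∀ ξ, R (α * ξ) = μ * S ξ) :
    ∃ σ : K ≃+* K, ∀ x, R x = R 1 * σ x ∧ S x = S 1 * σ x := by
  have r1 : R 1 ≠ 0 := fun h => one_ne_zero (hR0 1 h)
  have key : ∀ α ξ, R (α * ξ) * S 1 = R α * S ξ := fun α ξ => by
    obtain ⟨μ, hμ⟩ := h α
    have := hμ 1
    rw [mul_one] at this
    rw [hμ, this]; ring
  have k1 : ∀ ξ, R ξ * S 1 = R 1 * S ξ := fun ξ => by simpa using key 1 ξ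
  have r0 : R 0 = 0 := by have := hR 0 0; simpa using this
  let τ : K →+* K :=
    { toFun := fun x => R x / R 1
      map_one' := div_self r1
      map_mul' := fun x y => by
        field_simp
        apply mul_right_cancel₀ hS0
        linear_combination R 1 * key x y - R x * k1 y
      map_zero' := by simp [r0]
      map_add' := fun x y => by rw [hR, add_div] }
  refine ⟨RingEquiv.ofBijective τ ⟨τ.injective, Finite.surjective_of_injective τ.injective⟩,
    fun x => ⟨?_, ?_⟩⟩
  · show R x = R 1 * (R x / R 1)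
    field_simp
  · show S x = S 1 * (R x / R 1)
    field_simp
    linear_combination -k1 x

/-- An additive map that commutes with the real scalars. -/
theorem exists_lin {f : K → K} (ha : ∀ x y, f (x + y) = f x + f y)
    (h : ∀ t x, star t = t → f (t * x) = t * f x) : ∃ u v, ∀ x, f x = u * x + v * star x := by
  obtain ⟨θ, hθ⟩ := exists_star_ne K
  have h1 : θ - star θ ≠ 0 := sub_ne_zero.2 hθ.symm
  have h2 : star θ - θ ≠ 0 := sub_ne_zero.2 hθ
  refine ⟨(f θ - star θ * f 1) / (θ - star θ), (θ * f 1 - f θ) / (θ - star θ), fun x => ?_⟩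
  have e : x = (θ * star x - star θ * x) / (θ - star θ) * 1 + (x - star x) / (θ - star θ) * θ := by
    field_simp; ring
  have e1 : star ((θ * star x - star θ * x) / (θ - star θ)) =
      (θ * star x - star θ * x) / (θ - star θ) := by
    simp only [star_div₀, star_sub, star_mul', star_star]; field_simp; ring
  have e2 : star ((x - star x) / (θ - star θ)) = (x - star x) / (θ - star θ) := by
    simp only [star_div₀, star_sub, star_star]; field_simp; ring
  calc f x = f ((θ * star x - star θ * x) / (θ - star θ) * 1 + (x - star x) / (θ - star θ) * θ) := by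
        rw [← e]
    _ = _ := by rw [ha, h _ _ e1, h _ _ e2]; field_simp; ring

/-- Hilbert 90. -/
theorem exists_h90 {x y : K} (h : x * star x = y * star y) :
    ∃ ξ : K, ξ ≠ 0 ∧ x * star ξ + y * ξ = 0 := by
  by_cases hx : x = 0
  · rw [hx, zero_mul] at h
    exact ⟨1, one_ne_zero, by simp [hx, norm_eq_zero.1 h.symm]⟩
  obtain ⟨θ, hθ⟩ := exists_star_ne K
  have key : ∀ ρ : K, x * star (x * star ρ - star y * ρ) + y * (x * star ρ - star y * ρ) = 0 :=
    fun ρ => by simp only [star_sub, star_mul', star_star]; linear_combination ρ * h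
  by_cases h1 : x * star 1 - star y * 1 = 0
  · refine ⟨_, fun h2 => ?_, key θ⟩
    simp only [star_one, mul_one] at h1
    have : x * (star θ - θ) = 0 := by linear_combination h2 - θ * h1
    exact sub_ne_zero.2 hθ ((mul_eq_zero.1 this).resolve_left hx)
  · exact ⟨_, h1, key 1⟩

/-- weights: an additive map intertwining the scalars `s` and `t` vanishes when `t ^ n = 1 ≠ s ^ n`. -/
theorem eq_zero_of_weight {V : Type*} [AddCommGroup V] [Module K V] {χ : K → V}
    (ha : ∀ x y, χ (x + y) = χ x + χ y) {s t : K} (h : ∀ x, χ (s * x) = t • χ x) {n : ℕ}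
    (ht : t ^ n = 1) (hs : s ^ n ≠ 1) (x : K) : χ x = 0 := by
  have key : ∀ m : ℕ, ∀ x, χ (s ^ m * x) = t ^ m • χ x := fun m => by
    induction m with
    | zero => simp
    | succ m ih => intro x; rw [pow_succ', mul_assoc, h, ih, smul_smul, pow_succ']
  have h1 : s ^ n - 1 ≠ 0 := sub_ne_zero.2 hs
  have h2 := key n (x / (s ^ n - 1))
  have h3 := ha x (x / (s ^ n - 1))
  rw [ht, one_smul, show s ^ n * (x / (s ^ n - 1)) = x + x / (s ^ n - 1) by field_simp; ring] at h2
  rw [h2] at h3
  simpa using h3

end Cfsg.Agent.U5
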