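import Cfsg.Agent.Lib.U5.Field

/-!
# S5258: recognising `SU₃(q)` on `K × K × K`, part a: groups preserving the unital
(see notes/U5.md, section Lin1)
-/

set_option autoImplicit false
set_option linter.unusedSectionVars false
set_option linter.unusedVariables false

namespace Cfsg.Agent.U5

variable {K : Type*} [Field K] [StarRing K] [hK : UF K]

/-- the hermitian form -/
def hh (v w : K × K × K) : K := v.1 * star w.2.2 + v.2.1 * star w.2.1 + v.2.2 * star w.1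

/-- the commutator form of `Q1` -/
def BB (v w : K × K × K) : K := hh v w - hh w v

/-- the unitriangular unitary maps -/
def uu (α c : K) (v : K × K × K) : K × K × K :=
  (v.1, v.2.1 + v.1 * α, v.2.2 + v.1 * c - v.2.1 * star α)

/-- the monomial maps -/
def mm (c : K) (v : K × K × K) : K × K × K :=
  (c * v.2.2, -(star c / c * v.2.1), v.1 / star c)

/-- `γ` normalizes the line `ℓ = {(0, 0, ζ)}` -/
def FixL (γ : (K × K × K) ≃ₗ[ℤ] (K × K × K)) : Prop := ∀ ζ : K, (γ (0, 0, ζ)).1 = 0 ∧ (γ (0, 0, ζ)).2.1 = 0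

section Aux

variable {X : Subgroup ((K × K × K) ≃ₗ[ℤ] (K × K × K))}
  (hB : ∀ γ ∈ X, ∀ v w, BB v w = 0 → BB (γ v) (γ w) = 0)
  (hU : ∀ α c : K, c + star c + α * star α = 0 → ∃ γ ∈ X, ∀ v, γ v = uu α c v)
  (hΩ : ∀ γ ∈ X, ¬ FixL γ → ∃ α c : K, c + star c + α * star α = 0 ∧
    ∀ ζ : K, ∃ ξ : K, γ (0, 0, ζ) = (ξ, ξ * α, ξ * c))
  (hex : ∃ γ ∈ X, ¬ FixL γ)

theorem la_add3 (γ : (K × K × K) ≃ₗ[ℤ] (K × K × K)) (x y : K) :
    γ (0, 0, x + y) = γ (0, 0, x) + γ (0, 0, y) := by rw [← map_add]; simp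

theorem la_add2 (γ : (K × K × K) ≃ₗ[ℤ] (K × K × K)) (x y : K) :
    γ (0, x + y, 0) = γ (0, x, 0) + γ (0, y, 0) := by rw [← map_add]; simp

theorem la_add1 (γ : (K × K × K) ≃ₗ[ℤ] (K × K × K)) (x y : K) :
    γ (x + y, 0, 0) = γ (x, 0, 0) + γ (y, 0, 0) := by rw [← map_add]; simp

include hU hΩ hex in
theorem la_swap : ∃ γ ∈ X, (∀ ζ, (γ (0, 0, ζ)).2 = 0) ∧
    ∀ ξ, (γ (ξ, 0, 0)).1 = 0 ∧ (γ (ξ, 0, 0)).2.1 = 0 := by
  obtain ⟨γ, hγ, h⟩ := hex
  obtain ⟨α, c, h1, h2⟩ := hΩ γ hγ h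
  obtain ⟨u, hu, h3⟩ := hU (-α) (star c) (by simp; linear_combination h1)
  have h4 : ∀ ζ, ((u * γ) (0, 0, ζ)).2 = 0 := fun ζ => by
    obtain ⟨ξ, hξ⟩ := h2 ζ
    rw [LinearEquiv.mul_apply, hξ, h3]
    ext <;> simp [uu]
    linear_combination ξ * h1
  have hγ' := X.mul_mem hu hγ
  generalize u * γ = δ at h4 hγ'
  have e : ∀ v, δ (δ⁻¹ v) = v := δ.apply_symm_apply
  obtain ⟨α', c', h5, h6⟩ := hΩ δ⁻¹ (X.inv_mem hγ') fun hf => by
    have h7 := h4 (δ⁻¹ (0, 0, 1)).2.2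
    rw [show ((0 : K), (0 : K), (δ⁻¹ (0, 0, 1)).2.2) = δ⁻¹ (0, 0, 1) from
      Prod.ext (hf 1).1.symm (Prod.ext (hf 1).2.symm rfl), e] at h7
    simp at h7
  obtain ⟨u', hu', h7⟩ := hU α' c' h5
  refine ⟨δ * u', X.mul_mem hγ' hu', fun ζ => ?_, fun ξ => ?_⟩
  · rw [LinearEquiv.mul_apply, h7, ← h4 ζ]; simp [uu]
  obtain ⟨ζ, hζ⟩ := surj_of_ker (f := fun ζ => (δ⁻¹ (0, 0, ζ)).1)
    (fun x y => by rw [la_add3]; rfl) (fun ζ h0 => by
      obtain ⟨ξ, hξ⟩ := h6 ζ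
      rw [hξ] at h0
      have := e (0, 0, ζ)
      rw [hξ, show ξ = 0 from h0, zero_mul, zero_mul, show ((0 : K), (0 : K), (0 : K)) = 0 from rfl,
        map_zero] at this
      exact (congrArg (·.2.2) this).symm) ξ
  obtain ⟨ξ', hξ'⟩ := h6 ζ
  obtain rfl : ξ' = ξ := by rw [← hζ]; simp [hξ']
  have : u' (ξ', 0, 0) = δ⁻¹ (0, 0, ζ) := by rw [h7, hξ']; simp [uu]
  rw [LinearEquiv.mul_apply, this, e]
  exact ⟨rfl, rfl⟩

include hB hU hΩ hex in
theorem la_mono : ∃ γ ∈ X, ∃ P R S : K → K, (∀ x y, R (x + y) = R x + R y) ∧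
    (∀ x, P x = 0 → x = 0) ∧ Function.Surjective P ∧ (∀ x, R x = 0 → x = 0) ∧
    (∀ x, S x = 0 → x = 0) ∧ ∀ v, γ v = (P v.2.2, R v.2.1, S v.1) := by
  obtain ⟨γ, hγ, h1, h2⟩ := la_swap hU hΩ hex
  have z : ∀ v, γ v = 0 → v = 0 := fun v => γ.map_eq_zero_iff.1
  have kP : ∀ x, (γ (0, 0, x)).1 = 0 → x = 0 := fun x h =>
    congrArg (·.2.2) (z _ (Prod.ext h (h1 x)))
  have kS : ∀ x, (γ (x, 0, 0)).2.2 = 0 → x = 0 := fun x h =>
    congrArg (·.1) (z _ (Prod.ext (h2 x).1 (Prod.ext (h2 x).2 h)))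
  have sP := surj_of_ker (fun x y => by rw [la_add3]; rfl) kP
  have sS := surj_of_ker (fun x y => by rw [la_add1]; rfl) kS
  have h3 : ∀ η, (γ (0, η, 0)).1 = 0 := fun η => eq_zero_of_real fun y => by
    obtain ⟨x, hx⟩ := sS (star y)
    have := hB γ hγ (0, η, 0) (x, 0, 0) (by simp [BB, hh])
    simp only [BB, hh, (h2 x).1, (h2 x).2, hx, star_zero, star_star] at this
    linear_combination this
  have h4 : ∀ η, (γ (0, η, 0)).2.2 = 0 := fun η => eq_zero_of_real fun y => by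
    obtain ⟨x, hx⟩ := sP (star y)
    have := hB γ hγ (0, η, 0) (0, 0, x) (by simp [BB, hh])
    simp only [BB, hh, h1 x, hx, Prod.fst_zero, Prod.snd_zero, star_zero, star_star] at this
    linear_combination this
  refine ⟨γ, hγ, _, fun η => (γ (0, η, 0)).2.1, _, fun x y => by simp only [la_add2]; rfl, kP, sP,
    fun x h => congrArg (·.2.1) (z _ (Prod.ext (h3 x) (Prod.ext h (h4 x)))), kS, fun v => ?_⟩
  have : γ v = γ (v.1, 0, 0) + γ (0, v.2.1, 0) + γ (0, 0, v.2.2) := by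
    rw [← map_add, ← map_add]; simp
  rw [this]
  ext <;> simp [h1, h2, h3, h4]

include hB hU hΩ hex in
theorem la_semi : ∃ γ ∈ X, ∃ (σ : K ≃+* K) (r s t : K), r ≠ 0 ∧ s ≠ 0 ∧ t ≠ 0 ∧
    star s * t = r * star r ∧ ∀ v, γ v = (t * σ v.2.2, r * σ v.2.1, s * σ v.1) := by
  obtain ⟨γ, hγ, P, R, S, hR, kP, sP, kR, kS, h⟩ := la_mono hB hU hΩ hex
  have key : ∀ α c : K, c + star c + α * star α = 0 → c ≠ 0 → ∃ α' c' : K,
      c' + star c' + α' * star α' = 0 ∧ ∀ ξ, R (ξ * α) = P (ξ * c) * α' ∧ S ξ = P (ξ * c) * c' :=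
    fun α c hc h0 => by
    obtain ⟨u, hu, h1⟩ := hU α c hc
    have R0 : R 0 = 0 := by simpa using hR 0 0
    have S0 : S 0 = 0 := by simpa using (congrArg (·.2.2) (h 0)).symm
    have e : ∀ ζ, (γ * u * γ) (0, 0, ζ) = (P (P ζ * c), R (P ζ * α), S (P ζ)) := fun ζ => by
      rw [LinearEquiv.mul_apply, LinearEquiv.mul_apply, h, h1, h]; simp [uu, R0, S0]
    obtain ⟨α', c', h2, h3⟩ := hΩ _ (X.mul_mem (X.mul_mem hγ hu) hγ) fun hf => by
      obtain ⟨ζ, hζ⟩ := sP 1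
      have := (hf ζ).1
      rw [e, hζ, one_mul] at this
      exact h0 (kP c this)
    refine ⟨α', c', h2, fun ξ => ?_⟩
    obtain ⟨ζ, rfl⟩ := sP ξ
    obtain ⟨ξ', h4⟩ := h3 ζ
    rw [e, Prod.mk.injEq, Prod.mk.injEq] at h4
    rw [h4.1]; exact h4.2
  have s0 : S 1 ≠ 0 := fun h => one_ne_zero (kS 1 h)
  have r0 : R 1 ≠ 0 := fun h => one_ne_zero (kR 1 h)
  obtain ⟨σ, hσ⟩ := isotopy hR kR s0 fun α => by
    by_cases h0 : α = 0
    · exact ⟨0, fun ξ => by simpa [h0] using hR 0 0⟩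
    obtain ⟨α', c', -, h2⟩ := key α (-(om K * (α * star α))) (by simp; ring)
      (by simp [om_ne, h0])
    have : c' ≠ 0 := fun e => s0 (by rw [(h2 1).2, e, mul_zero])
    exact ⟨α' / c', fun ξ => by rw [mul_comm α, (h2 ξ).1, (h2 ξ).2]; field_simp⟩
  obtain ⟨α₁, h1⟩ := exists_alpha (1 : K)
  obtain ⟨α₂, c₁, -, h2⟩ := key α₁ 1 h1 one_ne_zero
  have c0 : c₁ ≠ 0 := fun e => s0 (by rw [(h2 1).2, e, mul_zero])
  have hP : ∀ x, P x = S 1 / c₁ * σ x := fun x => by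
    have := (h2 x).2
    rw [mul_one, (hσ x).2] at this
    field_simp
    linear_combination -this
  refine ⟨γ, hγ, σ, R 1, S 1, S 1 / c₁, r0, s0, div_ne_zero s0 c0, ?_, fun v => by
    rw [h, hP, (hσ v.2.1).1, (hσ v.1).2]⟩
  generalize S 1 / c₁ = t at hP
  refine sub_eq_zero.1 (eq_zero_of_trace fun y => ?_)
  obtain ⟨c, rfl⟩ := σ.surjective y
  by_cases h0 : c = 0
  · simp [h0]
  obtain ⟨α, h3⟩ := exists_alpha c
  obtain ⟨α', c', h4, h5⟩ := key α c h3 h0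
  obtain ⟨h6, h7⟩ := h5 1
  rw [one_mul, one_mul, hP, (hσ α).1] at h6
  rw [one_mul, hP] at h7
  have h8 := congrArg σ h3
  have h6' := congrArg star h6
  have h7' := congrArg star h7
  simp only [map_add, map_mul, map_zero, star_mul', star_sub, star_star, map_star'] at *
  linear_combination t * σ c * (star t * σ (star c)) * h4 + t * σ c * h7' +
    star t * σ (star c) * h7 - R 1 * star (R 1) * h8 + star (R 1) * σ (star α) * h6 +
    t * σ c * α' * h6'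

end Aux

/-- Lemma L1. -/
theorem lin1_mm {X : Subgroup ((K × K × K) ≃ₗ[ℤ] (K × K × K))}
    (hB : ∀ γ ∈ X, ∀ v w, BB v w = 0 → BB (γ v) (γ w) = 0)
    (hU : ∀ α c : K, c + star c + α * star α = 0 → ∃ γ ∈ X, ∀ v, γ v = uu α c v)
    (hΩ : ∀ γ ∈ X, ¬ FixL γ → ∃ α c : K, c + star c + α * star α = 0 ∧
      ∀ ζ : K, ∃ ξ : K, γ (0, 0, ζ) = (ξ, ξ * α, ξ * c))
    (hex : ∃ γ ∈ X, ¬ FixL γ) {c : K} (hc : c ≠ 0) : ∃ γ ∈ X, ∀ v, γ v = mm c v := by
  obtain ⟨γ, hγ, σ, r, s, t, hr, hs, ht, h1, h⟩ := la_semi hB hU hΩ hex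
  obtain ⟨c', hc'⟩ := σ.surjective (s * c / t)
  obtain ⟨α, h2⟩ := exists_alpha c'
  obtain ⟨u, hu, h3⟩ := hU α c' h2
  have h1' : s * star t = r * star r := by
    simpa [mul_comm] using congrArg star h1
  have hr' : star r ≠ 0 := star_ne_zero.2 hr
  have hs' : star s ≠ 0 := star_ne_zero.2 hs
  have ht' : star t ≠ 0 := star_ne_zero.2 ht
  have hc0 : star c ≠ 0 := star_ne_zero.2 hc
  obtain ⟨a, ha⟩ : ∃ a, a = -(r / s * σ α) := ⟨_, rfl⟩
  have ha' : star a = -(t / r * σ (star α)) := by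
    rw [ha, star_neg, star_mul', star_div₀, map_star']
    field_simp
    linear_combination σ (star α) * h1
  have h4 : c + star c + a * star a = 0 := by
    have h5 := congrArg σ h2
    rw [map_add, map_add, map_mul, ← map_star' σ c', hc', map_zero] at h5
    simp only [star_div₀, star_mul'] at h5
    rw [ha', ha]
    field_simp at h5 ⊢
    apply mul_left_cancel₀ ht'
    linear_combination h5 + star c * h1' - star c * h1
  have hw : ∀ v, (γ * u * γ⁻¹) v = (v.1 + star a * v.2.1 + c * v.2.2, v.2.1 - a * v.2.2, v.2.2) :=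
    fun v => by
    obtain ⟨v, rfl⟩ := γ.surjective v
    rw [LinearEquiv.mul_apply, LinearEquiv.mul_apply, show γ⁻¹ (γ v) = v from γ.symm_apply_apply v,
      h3, h, h, ha', ha]
    ext <;> simp [uu, hc'] <;> field_simp <;> ring
  obtain ⟨u₁, hu₁, h5⟩ := hU (a / star c) (1 / star c) (by
    simp only [star_div₀, star_star, star_one]; field_simp; linear_combination h4)
  obtain ⟨u₂, hu₂, h6⟩ := hU (a / c) (1 / star c) (by
    simp only [star_div₀, star_star, star_one]; field_simp; linear_combination h4)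
  refine ⟨u₂ * (γ * u * γ⁻¹) * u₁,
    X.mul_mem (X.mul_mem hu₂ (X.mul_mem (X.mul_mem hγ hu) (X.inv_mem hγ))) hu₁, fun v => ?_⟩
  rw [LinearEquiv.mul_apply, LinearEquiv.mul_apply, h5, hw, h6]
  ext <;> simp only [uu, mm, star_div₀, star_star] <;> field_simp
  · linear_combination v.1 * h4
  · linear_combination (v.2.1 * star c + v.1 * a) * h4
  · linear_combination ((v.2.2 * star c + v.1) * c - star c * v.2.1 * star a) * h4

end Cfsg.Agent.U5
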