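import Cfsg.Agent.Lib.U5.Defs
import Cfsg.Agent.Lib.H9.Transv

/-!
# S5258: local tools (see notes/U5.md, section Loc)
-/

set_option autoImplicit false
set_option linter.unusedSectionVars false
set_option linter.unusedVariables false

namespace Cfsg.Agent.U5

open Subgroup Cfsg Cfsg.FusionSystem
open scoped commutatorElement

section Generic

variable {W : Type*} [Group W] {R C D : Subgroup W} {γ δ : MulAut R} {x y : W}

/-- `γ` maps `R ⊓ C` into `C`. -/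
def Inv (γ : MulAut R) (C : Subgroup W) : Prop := ∀ x ∈ R, x ∈ C → equivFun γ x ∈ C

theorem ef_mul (γ : MulAut R) (hx : x ∈ R) (hy : y ∈ R) :
    equivFun γ (x * y) = equivFun γ x * equivFun γ y := (isHomOn_equivFun γ).map_mul hx hy

theorem ef_inv (γ : MulAut R) (hx : x ∈ R) : equivFun γ x⁻¹ = (equivFun γ x)⁻¹ :=
  (isHomOn_equivFun γ).map_inv hx

theorem ef_one (γ : MulAut R) : equivFun γ 1 = 1 := (isHomOn_equivFun γ).map_one

theorem ef_ce (γ : MulAut R) (hx : x ∈ R) (hy : y ∈ R) :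
    equivFun γ ⁅x, y⁆ = ⁅equivFun γ x, equivFun γ y⁆ :=
  (isHomOn_equivFun γ).map_commutatorElement hx hy

theorem ef_cm (γ : MulAut R) (hx : x ∈ R) (hy : y ∈ R) : equivFun γ (x⁻¹ * (y * x * y⁻¹)) =
    (equivFun γ x)⁻¹ * (equivFun γ y * equivFun γ x * (equivFun γ y)⁻¹) := by
  rw [ef_mul γ (inv_mem hx) (mul_mem (mul_mem hy hx) (inv_mem hy)), ef_inv γ hx,
    (isHomOn_equivFun γ).map_conj hy hx]

theorem ef_inj (γ : MulAut R) (hx : x ∈ R) (hy : y ∈ R) (h : equivFun γ x = equivFun γ y) :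
    x = y := by rw [← equivFun_inv_apply γ hx, h, equivFun_inv_apply γ hy]

theorem ef_eq_one (γ : MulAut R) (hx : x ∈ R) (h : equivFun γ x = 1) : x = 1 :=
  ef_inj γ hx (one_mem _) (h.trans (ef_one γ).symm)

/-- `γ x` commutes with `y` when `x` commutes with `γ⁻¹ y` -/
theorem ef_comm (γ : MulAut R) (hx : x ∈ R) (hy : y ∈ R)
    (h : x * equivFun γ⁻¹ y = equivFun γ⁻¹ y * x) : equivFun γ x * y = y * equivFun γ x := by
  have := congrArg (equivFun γ) h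
  rwa [ef_mul γ hx (equivFun_mem _ hy), ef_mul γ (equivFun_mem _ hy) hx,
    equivFun_apply_inv γ hy] at this

theorem ef_conj (γ : MulAut R) {t : W} (ht : t ∈ normalizer (R : Set W)) (hx : x ∈ R) :
    equivFun (γ * conjAut R ht * γ⁻¹) x = equivFun γ (t * equivFun γ⁻¹ x * t⁻¹) := by
  rw [equivFun_mul _ _ hx, equivFun_mul _ _ (equivFun_mem _ hx),
    equivFun_conjAut ht (equivFun_mem _ hx)]

theorem Inv.mul (h1 : Inv γ C) (h2 : Inv δ C) : Inv (γ * δ) C := fun x hx hC => by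
  rw [equivFun_mul _ _ hx]; exact h1 _ (equivFun_mem _ hx) (h2 x hx hC)

theorem Inv.one : Inv (1 : MulAut R) C := fun x hx hC => by rwa [equivFun_one hx]

theorem Inv.top : Inv γ ⊤ := fun _ _ _ => trivial

theorem Inv.bot : Inv γ ⊥ := fun x hx h => by rw [mem_bot.1 h, ef_one]; exact one_mem _

theorem Inv.of_le (h : R ≤ C) : Inv γ C := fun x hx _ => h (equivFun_mem _ hx)

theorem inv_conjAut {t : W} (ht : t ∈ normalizer (R : Set W)) (h : ∀ x ∈ C, t * x * t⁻¹ ∈ C) :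
    Inv (conjAut R ht) C := fun x hx hC => by rw [equivFun_conjAut ht hx]; exact h x hC

theorem inv_conjAut' [hC : C.Normal] {t : W} (ht : t ∈ normalizer (R : Set W)) :
    Inv (conjAut R ht) C := inv_conjAut ht fun x hx => hC.conj_mem x hx t

variable [Finite W]

theorem Inv.inv (h : Inv γ C) : Inv γ⁻¹ C := by
  let M : Submonoid (MulAut R) :=
    { carrier := {γ | Inv γ C}, one_mem' := Inv.one, mul_mem' := Inv.mul }
  exact H7.inv_mem_of_pow_mem (M := M) h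

/-- the automorphisms normalizing `R ⊓ C` -/
def invS (R C : Subgroup W) : Subgroup (MulAut R) where
  carrier := {γ | Inv γ C}
  one_mem' := Inv.one
  mul_mem' := Inv.mul
  inv_mem' := Inv.inv

theorem mem_invS : γ ∈ invS R C ↔ Inv γ C := Iff.rfl

/-- `γ x` commutes with `y` modulo `C` when `x` commutes with `γ⁻¹ y` modulo `C` -/
theorem Inv.cm (hC : Inv γ C) (hx : x ∈ R) (hy : y ∈ R)
    (h : x⁻¹ * (equivFun γ⁻¹ y * x * (equivFun γ⁻¹ y)⁻¹) ∈ C) :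
    (equivFun γ x)⁻¹ * (y * equivFun γ x * y⁻¹) ∈ C := by
  have hy' := equivFun_mem γ⁻¹ hy
  have := hC _ (mul_mem (inv_mem hx) (mul_mem (mul_mem hy' hx) (inv_mem hy'))) h
  rwa [ef_cm γ hx hy', equivFun_apply_inv γ hy] at this

theorem conj_mem_chainStab {C : ℕ → Subgroup W} (hC : Monotone C) (hγ : ∀ i, Inv γ (C i))
    (hδ : δ ∈ H7.chainStab R C hC) : γ * δ * γ⁻¹ ∈ H7.chainStab R C hC := by
  rw [H7.mem_chainStab] at hδ ⊢
  intro i x hx hxC
  have hy := equivFun_mem γ⁻¹ hx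
  have := hγ i _ (mul_mem (inv_mem hy) (equivFun_mem δ hy)) (hδ i _ hy ((hγ _).inv x hx hxC))
  rwa [ef_mul γ (inv_mem hy) (equivFun_mem δ hy), ef_inv γ hy, equivFun_apply_inv γ hx,
    ← equivFun_mul _ _ hy, ← equivFun_mul _ _ hx] at this

/-- The configuration at an essential subgroup. -/
structure Loc (p : ℕ) (R : Subgroup W) (M A : Subgroup (MulAut R)) : Prop where
  hW : IsPGroup p W
  data : H9.SPEData p (Inn R) (autInducedBy ⊤ R) M A
  cent : ∀ x, (∀ r ∈ R, r * x = x * r) → x ∈ R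

variable {p : ℕ} [hp : Fact p.Prime] {M A : Subgroup (MulAut R)}

theorem exists_loc {F : FusionSystem (⊤ : Subgroup W)} (hW : IsPGroup p W) (hF : F.IsSaturated p)
    (hE : F.IsEssential p R) : ∃ M, Loc p R M (F.autGroup R) :=
  let ⟨M, h⟩ := H9.exists_essCtx (hW.to_subgroup ⊤) hF hE
  ⟨M, hW, h.data, fun x hx => H9.centralizer_le_of_isCentric hE.isCentric trivial hx⟩

/-- the strong embedding property in the form used below -/
def SE (R : Subgroup W) (M A : Subgroup (MulAut R)) : Prop :=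
  ∀ t (ht : t ∈ normalizer (R : Set W)), t ∉ R → ∀ g ∈ A, g * conjAut R ht * g⁻¹ ∈ M → g ∈ M

namespace Loc

theorem cj_T {t : W} (ht : t ∈ normalizer (R : Set W)) : conjAut R ht ∈ autInducedBy ⊤ R :=
  conjAut_mem_autInducedBy (mem_top t) ht

theorem cj_A (h : Loc p R M A) {t : W} (ht : t ∈ normalizer (R : Set W)) : conjAut R ht ∈ A :=
  h.data.mem_A (cj_T ht)

theorem cj_inn (h : Loc p R M A) {t : W} (ht : t ∈ normalizer (R : Set W))
    (hi : conjAut R ht ∈ Inn R) : t ∈ R :=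
  (conjAut_mem_inn_iff (S := ⊤) (fun x hx => h.cent x (mem_centralizerIn'.1 hx).2) le_top trivial
    ht).1 hi

theorem se (h : Loc p R M A) : SE R M A := fun t ht htR g hg hm =>
  h.data.mem_of_conj_mem (cj_T ht) (fun hi => htR (h.cj_inn ht hi)) hg hm

theorem ne_top (h : Loc p R M A) : R ≠ ⊤ := by
  rintro rfl
  obtain ⟨t, ht, hi⟩ := h.data.exists_not_mem_I
  exact hi (inn_eq_autInducedBy (⊤ : Subgroup W) ▸ ht)

/-- An element stabilizing a chain which is invariant under an element outside `M` lies in `R`. -/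
theorem chain (h : Loc p R M A) {g : MulAut R} (hg : g ∈ A) (hb : g ∉ M) {C : ℕ → Subgroup W}
    (hC : Monotone C) (h0 : C 0 = ⊥) {n : ℕ} (hn : C n = ⊤) (hγ : ∀ i, Inv g (C i)) {t : W}
    (ht : t ∈ normalizer (R : Set W))
    (hs : ∀ i, ∀ x ∈ R, x ∈ C (i + 1) → x⁻¹ * (t * x * t⁻¹) ∈ C i) : t ∈ R := by
  by_contra htR
  have h1 : conjAut R ht ∈ H7.chainStab R C hC := (H7.mem_chainStab hC).2 fun i x hx hxC => by
    rw [equivFun_conjAut ht hx]; exact hs i x hx hxC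
  have hI : conjAut R ht ∉ Inn R := fun hi => htR (h.cj_inn ht hi)
  exact hb (h.data.mem_of_isPGroup (R := H7.chainStab R C hC ⊓ A)
    (H7.isPGroup_chainStab (h.hW.to_subgroup R) hC (by simp [h0]) (n := n) (by simp [hn])).to_inf_left
    inf_le_right (cj_T ht) hI (cj_T ht) hI hg ⟨h1, h.cj_A ht⟩
    ⟨conj_mem_chainStab hC hγ h1, h.data.conj_mem_A (cj_T ht) hg⟩)

/-- An automorphism stabilizing an invariant chain is inner. -/
theorem inn_of_chain (h : Loc p R M A) {C : ℕ → Subgroup W}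
    (hC : Monotone C) (h0 : C 0 = ⊥) {n : ℕ} (hn : C n = ⊤) (hγ : ∀ g ∈ A, ∀ i, Inv g (C i))
    {g : MulAut R} (hg : g ∈ A) (hs : ∀ i, ∀ x ∈ R, x ∈ C (i + 1) → x⁻¹ * equivFun g x ∈ C i) :
    ∃ t ∈ R, ∀ x ∈ R, equivFun g x = t * x * t⁻¹ := by
  have h1 : g ∈ Inn R := h.data.le_of_normalIn (N := H7.chainStab R C hC ⊓ A)
    ⟨inf_le_right, fun a ha b hb => ⟨conj_mem_chainStab hC (hγ a ha) hb.1,
      A.mul_mem (A.mul_mem ha hb.2) (A.inv_mem ha)⟩⟩
    (H7.isPGroup_chainStab (h.hW.to_subgroup R) hC (by simp [h0]) (n := n) (by simp [hn])).to_inf_left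
    ⟨(H7.mem_chainStab hC).2 hs, hg⟩
  obtain ⟨t, ht, e⟩ := mem_inn_iff.1 h1
  exact ⟨t, ht, fun x hx => by rw [equivFun_of_mem _ hx]; exact e ⟨x, hx⟩⟩

/-- An automorphism stabilizing a chain that all of `Aut_S(R)` stabilizes lies in `Aut_S(R)`. -/
theorem conj_of_chain (h : Loc p R M A) {C : ℕ → Subgroup W}
    (hC : Monotone C) (h0 : C 0 = ⊥) {n : ℕ} (hn : C n = ⊤)
    (hT : ∀ t, ∀ i, ∀ x ∈ R, x ∈ C (i + 1) → x⁻¹ * (t * x * t⁻¹) ∈ C i)
    {g : MulAut R} (hg : g ∈ A) (hs : g ∈ H7.chainStab R C hC) :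
    ∃ t, ∀ x ∈ R, equivFun g x = t * x * t⁻¹ := by
  have h1 : H7.chainStab R C hC ⊓ A = autInducedBy ⊤ R := h.data.sylow.eq_of_le
    (H7.isPGroup_chainStab (h.hW.to_subgroup R) hC (by simp [h0]) (n := n) (by simp [hn])).to_inf_left
    (fun a ha => ⟨(H7.mem_chainStab hC).2 fun i x hx hxC => by
      obtain ⟨t, -, -, e⟩ := mem_autInducedBy_iff'.1 ha
      rw [e x hx]; exact hT t i x hx hxC, h.data.mem_A ha⟩) inf_le_right
  obtain ⟨t, -, -, e⟩ := mem_autInducedBy_iff'.1 (h1.le ⟨hs, hg⟩)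
  exact ⟨t, e⟩

end Loc

/-- The maximal subgroup between `Z` and `B` normalized by an element of `P` outside `M`. -/
theorem exists_max {P : Subgroup (MulAut R)} {Z B : Subgroup W} (hZB : Z ≤ B) (hB : B ≤ R)
    {g : MulAut R} (hg : g ∈ P) (hb : g ∉ M) (hZ : Inv g Z) :
    ∃ U : Subgroup W, Z ≤ U ∧ U ≤ B ∧ (∃ g ∈ P, g ∉ M ∧ Inv g U) ∧
      ∀ z ∈ B, z ∉ U → ∀ γ ∈ P, Inv γ U → z⁻¹ * equivFun γ z ∈ U → γ ∈ M := by
  obtain ⟨U, ⟨h1, h2, h3⟩, hmax⟩ := H7.exists_max_card (S := B)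
    (𝓒 := {U | Z ≤ U ∧ U ≤ B ∧ ∃ g ∈ P, g ∉ M ∧ Inv g U}) (fun Q hQ => hQ.2.1)
    ⟨Z, le_rfl, hZB, g, hg, hb, hZ⟩
  refine ⟨U, h1, h2, h3, fun z hz hzU γ hγ hi hm => by_contra fun hM => ?_⟩
  have hle : U ⊔ zpowers z ≤ B := sup_le h2 (zpowers_le.2 hz)
  have hz' : equivFun γ z ∈ U ⊔ zpowers z := by
    simpa using mul_mem (mem_sup_right (mem_zpowers z)) (mem_sup_left hm : _ ∈ U ⊔ zpowers z)
  have := hmax (U ⊔ zpowers z) ⟨h1.trans le_sup_left, hle, γ, hγ, hM, fun x _ hx =>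
    ((isHomOn_equivFun γ).mono (hle.trans hB)).mapsTo_sup
      (fun y hy => mem_sup_left (hi y (hB (h2 hy)) hy)) (fun y hy => by
        obtain ⟨k, rfl⟩ := mem_zpowers_iff.1 hy
        rw [(isHomOn_equivFun γ).map_zpow (hB hz)]; exact zpow_mem hz' k) x hx⟩
  exact absurd (card_lt_of_lt (lt_of_le_of_ne le_sup_left fun e : U = U ⊔ zpowers z =>
    hzU (e ▸ mem_sup_right (mem_zpowers z)))) (not_lt.2 this)

/-- With `U` as in `exists_max`: what centralizes `g z` modulo `U` lies in `R`. -/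
theorem mem_of_max (hW : IsPGroup p W) (hse : SE R M A) {P : Subgroup (MulAut R)} (hP : P ≤ A)
    (hcj : ∀ t (ht : t ∈ normalizer (R : Set W)), conjAut R ht ∈ P) {U : Subgroup W} [U.Normal]
    (hU : U ≤ R) {z : W} (hz : z ∈ R)
    (hmax : ∀ γ ∈ P, Inv γ U → z⁻¹ * equivFun γ z ∈ U → γ ∈ M)
    {g : MulAut R} (hg : g ∈ P) (hb : g ∉ M) (hi : Inv g U)
    (hR : ∀ r ∈ R, z⁻¹ * (r * z * r⁻¹) ∈ U) {x : W}
    (hx : (equivFun g z)⁻¹ * (x * equivFun g z * x⁻¹) ∈ U) : x ∈ R := by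
  set w := equivFun g z with hw
  have hwR : w ∈ R := equivFun_mem _ hz
  let C : Subgroup W := (centralizer {(w : W ⧸ U)}).comap (QuotientGroup.mk' U)
  have hC : ∀ x, x ∈ C ↔ w⁻¹ * (x * w * x⁻¹) ∈ U := fun x => by
    rw [mem_comap, mem_centralizer_singleton_iff, ← QuotientGroup.eq, QuotientGroup.mk'_apply,
      QuotientGroup.mk_mul, QuotientGroup.mk_mul, QuotientGroup.mk_inv, eq_mul_inv_iff_mul_eq,
      eq_comm]
  have hRC : R ≤ C := fun r hr => (hC r).2 (hi.cm hz hr (hR _ (equivFun_mem _ hr)))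
  have key : normalizerIn C R ≤ R := fun t ht => by_contra fun htR => by
    refine hb (inv_mem_iff.1 (hse t ht.2 htR g⁻¹ (inv_mem (hP hg))
      (hmax _ (mul_mem (mul_mem (inv_mem hg) (hcj t ht.2)) (inv_mem (inv_mem hg)))
        ((hi.inv.mul (inv_conjAut' ht.2)).mul hi.inv.inv) ?_)))
    have h1 := hi.inv _ (hU ((hC t).1 ht.1)) ((hC t).1 ht.1)
    rwa [ef_conj _ _ hz, inv_inv, ← hw, ← equivFun_inv_apply g hz, ← hw, ← ef_inv _ hwR,
      ← ef_mul _ (inv_mem hwR) (conj_mem_of_mem_normalizer ht.2 hwR)]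
  rw [eq_of_normalizerIn_le (hW.to_subgroup C) hRC key]
  exact (hC x).2 hx

/-- An automorphism normalizing `Aut_S(R)` extends to `S`. -/
theorem exists_ext {F : FusionSystem (⊤ : Subgroup W)} (hW : IsPGroup p W) (hF : F.IsSaturated p)
    [hR : R.Normal] (hγ : γ ∈ F.autGroup R)
    (h : ∀ t : W, ∃ s : W, ∀ x ∈ R, equivFun γ (t * x * t⁻¹) = s * equivFun γ x * s⁻¹) :
    ∃ f, F.IsIso ⊤ ⊤ f ∧ ∀ x ∈ R, f x = equivFun γ x := by
  have hn : (⊤ : Subgroup W) ≤ normalizer (R : Set W) := by rw [normalizer_eq_top]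
  obtain ⟨f, h1, h2⟩ := (hF.isReceptive (hW.to_subgroup ⊤)
    (F.isFullyNormalized_of_le_normalizer le_top hn)).exists_ext_of_le
    (isIso_of_mem_autGroup le_top hγ) (R := ⊤) fun t _ =>
      let ⟨s, hs⟩ := h t; mem_extSub.2 ⟨trivial, hn trivial, s, trivial, hs⟩
  rw [sup_top_eq] at h1
  exact ⟨f, h1.isIso_top, h2⟩

/-- The action on an abelian quotient. -/
theorem exists_vb {V : Type*} [AddCommGroup V] (π : W → V)
    (hm : ∀ x ∈ R, ∀ y ∈ R, π (x * y) = π x + π y) (hs : ∀ v, ∃ x ∈ R, π x = v)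
    (hk : ∀ γ : MulAut R, ∀ x ∈ R, π x = 0 → π (equivFun γ x) = 0) :
    ∃ vb : MulAut R →* (V ≃ₗ[ℤ] V), ∀ γ, ∀ x ∈ R, vb γ (π x) = π (equivFun γ x) := by
  choose s hs1 hs2 using hs
  have h1 : π 1 = 0 := by simpa using hm 1 (one_mem _) 1 (one_mem _)
  have hi : ∀ x ∈ R, π x⁻¹ = -π x := fun x hx => by
    have := hm x hx _ (inv_mem hx)
    rw [mul_inv_cancel, h1] at this
    exact (neg_eq_of_add_eq_zero_right this.symm).symm
  have key : ∀ γ : MulAut R, ∀ x ∈ R, π (equivFun γ (s (π x))) = π (equivFun γ x) := fun γ x hx => by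
    have := hk γ _ (mul_mem (inv_mem hx) (hs1 (π x))) (by rw [hm _ (inv_mem hx) _ (hs1 _), hi x hx, hs2]; simp)
    rw [ef_mul _ (inv_mem hx) (hs1 _), hm _ (equivFun_mem _ (inv_mem hx)) _ (equivFun_mem _ (hs1 _)),
      ef_inv _ hx, hi _ (equivFun_mem _ hx)] at this
    exact (neg_add_eq_zero.1 this).symm
  have k2 : ∀ (γ δ : MulAut R) v, π (equivFun γ (s (π (equivFun δ (s v))))) =
      π (equivFun (γ * δ) (s v)) := fun γ δ v => by
    rw [key γ _ (equivFun_mem _ (hs1 v)), equivFun_mul _ _ (hs1 v)]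
  have k1 : ∀ v, π (equivFun (1 : MulAut R) (s v)) = v := fun v => by rw [equivFun_one (hs1 v), hs2]
  refine ⟨MonoidHom.mk' (fun γ => AddEquiv.toIntLinearEquiv
    ⟨⟨fun v => π (equivFun γ (s v)), fun v => π (equivFun γ⁻¹ (s v)),
    fun v => by simp only [k2, inv_mul_cancel, k1], fun v => by simp only [k2, mul_inv_cancel, k1]⟩,
    fun v w => ?_⟩) fun γ δ => LinearEquiv.ext fun v => (k2 γ δ v).symm, key⟩
  show π (equivFun γ (s (v + w))) = π (equivFun γ (s v)) + π (equivFun γ (s w))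
  rw [← hm _ (equivFun_mem _ (hs1 v)) _ (equivFun_mem _ (hs1 w)), ← ef_mul _ (hs1 v) (hs1 w),
    ← key γ _ (mul_mem (hs1 v) (hs1 w)), hm _ (hs1 v) _ (hs1 w), hs2, hs2]

/-- Fixed point free action and cocycles. -/
theorem mem_of_fpf {G : Type*} [Group G] [Finite G] {I C : Subgroup G} (hIC : I ≤ C) {k c : G}
    (hk : ∀ i ∈ I, k * i * k⁻¹ ∈ I) (hf : ∀ y ∈ C, k * y * k⁻¹ = y → y = 1) (hc : c ∈ C)
    (h : c * (k * c⁻¹ * k⁻¹) ∈ I) : c ∈ I := by
  let φ : I → I := fun i => ⟨i * (k * (i : G)⁻¹ * k⁻¹), mul_mem i.2 (hk _ (inv_mem i.2))⟩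
  have key : ∀ a ∈ C, ∀ b ∈ C, a * (k * a⁻¹ * k⁻¹) = b * (k * b⁻¹ * k⁻¹) → a = b := fun a ha b hb e => by
    have := hf (b⁻¹ * a) (mul_mem (inv_mem hb) ha) (by
      calc k * (b⁻¹ * a) * k⁻¹ = b⁻¹ * (b * (k * b⁻¹ * k⁻¹)) * (k * a * k⁻¹) := by group
        _ = b⁻¹ * a := by rw [← e]; group)
    exact (inv_mul_eq_one.1 this).symm
  obtain ⟨i, hi⟩ := Finite.surjective_of_injective (f := φ) (fun a b e =>
    Subtype.ext (key _ (hIC a.2) _ (hIC b.2) (congrArg Subtype.val e))) ⟨_, h⟩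
  exact key _ (hIC i.2) _ hc (congrArg Subtype.val hi) ▸ i.2

end Generic

section Concrete

variable {K : Type*} [Field K] [StarRing K] [hK : UF K] {R : Subgroup (US K)} {γ : MulAut R}
  {x : US K}

open US

theorem mem_Q2_of_comm (h : ∀ z ∈ Z2 K, x * z = z * x) : x ∈ Q2 K :=
  eq_zero_of_real fun y => by
    have := (comm_iff.1 (h (xe (star y)) ⟨rfl, rfl, rfl, rfl⟩)).2.2.2
    simp at this
    linear_combination this

theorem mem_YY_of_comm (h : ∀ z ∈ Z3 K, x * z = z * x) : x ∈ YY K := by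
  have hb : x.b = 0 := mem_Q2_of_comm fun z hz => h z (Z2_le_Z3 hz)
  have h1 := fun y => comm_iff.1 (h (el 0 0 0 y 0 h00) ⟨rfl, rfl⟩)
  have ha : x.a = 0 := by simpa [hb] using (h1 1).2.2.1
  refine ⟨ha, hb, eq_zero_of_real fun y => ?_⟩
  have := (h1 (star y)).2.2.2
  simp [ha, hb] at this
  linear_combination this

theorem mem_Z1_of_comm (h : ∀ z ∈ Q1 K, x * z = z * x) : x ∈ Z1 K := by
  obtain ⟨κ, hκ, hκ'⟩ := exists_tz K
  have hb : x.b = 0 := mem_Q2_of_comm fun z hz => h z (Z2_le_Q1 hz)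
  have h1 := fun y => comm_iff.1 (h (el 0 0 0 y 0 h00) ⟨rfl, rfl⟩)
  have h2 := fun y => comm_iff.1 (h (xb y) ⟨rfl, rfl⟩)
  have ha : x.a = 0 := by simpa [hb] using (h1 1).2.2.1
  have hc : x.c = 0 := by simpa [hb, ha] using (h2 1).2.2.1.symm
  refine ⟨ha, hb, hc, eq_zero_of_real fun y => ?_, eq_zero_of_real fun y => ?_⟩
  · have := (h1 (star y)).2.2.2
    simp [ha, hb] at this
    linear_combination this
  · have := (h2 (star y)).2.2.2
    simp [ha, hb, hc] at this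
    linear_combination this

theorem mem_Z3_of_cm (hx : x ∈ Q2 K) (h : ∀ y ∈ Q2 K, x⁻¹ * (y * x * y⁻¹) ∈ Z2 K) : x ∈ Z3 K := by
  refine ⟨eq_zero_of_real fun y => ?_, hx⟩
  have := (h (xa (star y) _ (hom _)) rfl).2.2.1
  simp at this
  linear_combination this

theorem mem_Z2_of_cm (h : ∀ y, x⁻¹ * (y * x * y⁻¹) ∈ Z1 K) : x ∈ Z2 K := by
  have hb : x.b = 0 := by
    have := (h (xa 1 _ (hom _))).2.2.2.1
    simp at this
    linear_combination -this
  have ha : x.a = 0 := by simpa [hb] using (h (xb 1)).2.2.2.1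
  refine ⟨ha, hb, by simpa [ha, hb] using (h (xb 1)).2.2.2.2, ?_⟩
  simpa [ha, hb] using (h (xa 1 _ (hom _))).2.2.2.2

theorem inv_Z1 (hR : Q1 K ≤ R) (γ : MulAut R) : Inv γ (Z1 K) := fun x hx hZ =>
  mem_Z1_of_comm fun z hz => ef_comm γ hx (hR hz) (comm_Z1 hZ _)

theorem inv_Z2_top (γ : MulAut (⊤ : Subgroup (US K))) : Inv γ (Z2 K) := fun x hx hZ =>
  mem_Z2_of_cm fun y => (inv_Z1 le_top γ).cm hx trivial (cm_Z1 (Or.inl hZ))

theorem inv_Q2 (hR : Z2 K ≤ R) (h : Inv γ (Z2 K)) : Inv γ (Q2 K) := fun x hx hQ =>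
  mem_Q2_of_comm fun z hz => ef_comm γ hx (hR hz)
    (comm_YY (Z2_le_YY (h.inv z (hR hz) hz)) hQ).symm

theorem inv_YY (hR : Z3 K ≤ R) (h : Inv γ (Q2 K)) : Inv γ (YY K) := fun x hx hY =>
  mem_YY_of_comm fun z hz => ef_comm γ hx (hR hz) (comm_YY hY (h.inv z (hR hz) (Z3_le_Q2 hz)))

theorem inv_Z3 (hR : Q2 K ≤ R) (h : Inv γ (Z2 K)) : Inv γ (Z3 K) := fun x hx hZ =>
  mem_Z3_of_cm (inv_Q2 (Z2_le_Q2.trans hR) h x hx (Z3_le_Q2 hZ)) fun y hy =>
    h.cm hx (hR hy) (cm_Z2 (Or.inl hZ))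

theorem inv_YY_Q2 (γ : MulAut (Q2 K)) : Inv γ (YY K) := inv_YY Z3_le_Q2 (Inv.of_le le_rfl)

variable {p : ℕ} [hp : Fact p.Prime] {M A : Subgroup (MulAut R)}

theorem mem_norm_of_cm {W : Type*} [Group W] [Finite W] {R : Subgroup W} {t : W}
    (h : ∀ x ∈ R, x⁻¹ * (t * x * t⁻¹) ∈ R) : t ∈ normalizer (R : Set W) :=
  mem_normalizer_of_finite fun x hx => by simpa using mul_mem hx (h x hx)

theorem cm_eq_one {W : Type*} [Group W] {x t : W} (h : x * t = t * x) :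
    x⁻¹ * (t * x * t⁻¹) ∈ (⊥ : Subgroup W) := by rw [mem_bot, ← h]; group

theorem Loc.Z1_le (h : Loc p R M A) : Z1 K ≤ R := fun x hx => h.cent x fun r _ => (comm_Z1 hx r).symm

theorem Loc.Z2_le (h : Loc p R M A) {g : MulAut R} (hg : g ∈ A) (hb : g ∉ M)
    (h1 : Inv g (Z1 K)) : Z2 K ≤ R := fun t ht =>
  h.chain hg hb (H7.chain2_monotone (Z1 K)) rfl (n := 2) rfl
    (fun i => match i with | 0 => Inv.bot | 1 => h1 | _ + 2 => Inv.top)
    (mem_norm_of_cm fun x _ => h.Z1_le (cm_Z1 (Or.inr (Or.inl ht)))) fun i x _ hx =>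
    match i, hx with
    | 0, hx => cm_eq_one (comm_Z1 hx t)
    | 1, _ => cm_Z1 (Or.inr (Or.inl ht))
    | _ + 2, _ => trivial

variable (K) in
/-- the upper central series -/
def chZ : ℕ → Subgroup (US K)
  | 0 => ⊥
  | 1 => Z1 K
  | 2 => Z2 K
  | 3 => Z3 K
  | _ + 4 => ⊤

theorem chZ_mono : Monotone (chZ K) := monotone_nat_of_le_succ fun n =>
  match n with
  | 0 => bot_le
  | 1 => Z1_le_Z2
  | 2 => Z2_le_Z3
  | 3 => le_top
  | _ + 4 => le_rfl

theorem chZ_cm (t : US K) (i : ℕ) (x : US K) (hx : x ∈ chZ K (i + 1)) :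
    x⁻¹ * (t * x * t⁻¹) ∈ chZ K i :=
  match i, hx with
  | 0, hx => cm_eq_one (comm_Z1 hx t)
  | 1, hx => cm_Z1 (Or.inl hx)
  | 2, hx => cm_Z2 (Or.inl hx)
  | 3, _ => cm_Z3 x t
  | _ + 4, _ => trivial

/-- the chain `1 ≤ A ≤ B ≤ ⊤` -/
def ch3 {W : Type*} [Group W] (A B : Subgroup W) : ℕ → Subgroup W
  | 0 => ⊥
  | 1 => A
  | 2 => B
  | _ + 3 => ⊤

theorem ch3_mono {W : Type*} [Group W] {A B : Subgroup W} (h : A ≤ B) : Monotone (ch3 A B) :=
  monotone_nat_of_le_succ fun n =>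
  match n with
  | 0 => bot_le
  | 1 => h
  | 2 => le_top
  | _ + 3 => le_rfl

/-- L3: what normalizes `Z1` and `Z2` lies in `M`. -/
theorem Loc.mem_of_inv (h : Loc p R M A) {g : MulAut R} (hg : g ∈ A) (h1 : Inv g (Z1 K))
    (h2 : Inv g (Z2 K)) : g ∈ M := by
  by_contra hb
  have e2 := h.Z2_le hg hb h1
  have e3 : Z3 K ≤ R := fun t ht =>
    h.chain hg hb (ch3_mono Z1_le_Z2) rfl (n := 3) rfl
      (fun i => match i with | 0 => Inv.bot | 1 => h1 | 2 => h2 | _ + 3 => Inv.top)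
      (mem_norm_of_cm fun x _ => e2 (cm_Z2 (Or.inr (Or.inl ht)))) fun i x _ hx =>
      match i, hx with
      | 0, hx => cm_eq_one (comm_Z1 hx t)
      | 1, hx => cm_Z1 (Or.inl hx)
      | 2, _ => cm_Z2 (Or.inr (Or.inl ht))
      | _ + 3, _ => trivial
  have hn : ∀ t, t ∈ normalizer (R : Set (US K)) := fun t =>
    mem_norm_of_cm fun x _ => e3 (cm_Z3 x t)
  have h4 := inv_Q2 e2 h2
  have e4 : Q2 K ≤ R := fun t ht =>
    h.chain hg hb (ch3_mono YY_le_Q2) rfl (n := 3) rfl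
      (fun i => match i with | 0 => Inv.bot | 1 => inv_YY e3 h4 | 2 => h4 | _ + 3 => Inv.top)
      (hn t) fun i x _ hx =>
      match i, hx with
      | 0, hx => cm_eq_one (comm_YY hx ht)
      | 1, hx => cm_YY hx ht
      | 2, _ => Z3_le_Q2 (cm_Z3 x t)
      | _ + 3, _ => trivial
  exact h.ne_top (eq_top_iff.2 fun t _ => h.chain hg hb chZ_mono rfl (n := 4) rfl
    (fun i => match i with
      | 0 => Inv.bot | 1 => h1 | 2 => h2 | 3 => inv_Z3 e4 h2 | _ + 4 => Inv.top)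
    (hn t) fun i x _ hx => chZ_cm t i x hx)

end Concrete

end Cfsg.Agent.U5
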